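import Mathlib
import Cfsg.Agent.Lib.Characters.Basic
import Cfsg.Agent.Lib.Induced.Character
import Cfsg.Agent.Lib.Brauer.PermChar
import Cfsg.Prelude.Def_ParabolicCharacters

/-!
Permutation characters are characters; a generalized character of norm one with positive degree
is irreducible.
-/

namespace Cfsg.Agent.Lib.GLFlags

open Cfsg.Agent.Lib.Characters.Basic

variable {G : Type*} [Group G] [Fintype G]

theorem isCharacter_fixedPointCharacter (H : Subgroup G) :
    Cfsg.IsCharacter G (Cfsg.fixedPointCharacter H) := by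
  classical
  have h : Cfsg.fixedPointCharacter H = Cfsg.indFun H (fun _ => 1) := by
    funext g
    rw [Cfsg.Agent.Lib.Brauer.PermChar.indFun_one_eq_card]
    rfl
  rw [h]
  exact Cfsg.Agent.Lib.Induced.Character.isCharacter_indFun H isCharacter_one

/-- An integral combination of characters has integral inner products with irreducibles. -/
theorem isIrrCharacter_of_norm_one {ι : Type*} (s : Finset ι) (z : ι → ℤ) (f : ι → G → ℂ)
    (hf : ∀ i ∈ s, Cfsg.IsCharacter G (f i))
    (hnorm : Cfsg.classInner (∑ i ∈ s, (z i : ℂ) • f i) (∑ i ∈ s, (z i : ℂ) • f i) = 1)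
    (A B : ℕ) (hA : 0 < A) (hB : 0 < B)
    (hdeg : (∑ i ∈ s, (z i : ℂ) • f i) 1 * (A : ℂ) = (B : ℂ)) :
    Cfsg.IsIrrCharacter G (∑ i ∈ s, (z i : ℂ) • f i) := by
  classical
  letI : Fintype (Cfsg.IrrCharacter G) := Fintype.ofFinite _
  generalize hθ : ∑ i ∈ s, (z i : ℂ) • f i = θ at hnorm hdeg ⊢
  have hn : ∀ i ∈ s, ∀ ψ : Cfsg.IrrCharacter G, ∃ k : ℕ, Cfsg.classInner (f i) ψ = k :=
    fun i hi ψ => exists_classInner_nat (hf i hi) (isCharacter_irr ψ)
  choose! k hk using hn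
  let c : Cfsg.IrrCharacter G → ℤ := fun ψ => ∑ i ∈ s, z i * k i ψ
  have hdec : θ = ∑ ψ, ((c ψ : ℤ) : ℂ) • (ψ : G → ℂ) := by
    rw [← hθ]
    simp only [c, Int.cast_sum, Int.cast_mul, Int.cast_natCast, Finset.sum_smul]
    rw [Finset.sum_comm]
    refine Finset.sum_congr rfl fun i hi => ?_
    conv_lhs => rw [character_eq_finsum (hf i hi), finsum_eq_sum_of_fintype, Finset.smul_sum]
    exact Finset.sum_congr rfl fun ψ _ => by rw [hk i hi ψ, smul_smul]
  have hsq : ∑ ψ, c ψ ^ 2 = 1 := by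
    rw [hdec] at hnorm
    simp only [classInner_sum_left, Cfsg.Agent.Lib.Induced.Basic.classInner_smul_left,
      classInner_sum_right, Cfsg.Agent.Lib.Induced.Basic.classInner_smul_right, classInner_irr,
      mul_ite, mul_one, mul_zero, Finset.sum_ite_eq, Finset.mem_univ, if_true, map_intCast] at hnorm
    have : ((∑ ψ, c ψ ^ 2 : ℤ) : ℂ) = ((1 : ℤ) : ℂ) := by
      push_cast
      simpa [sq] using hnorm
    exact_mod_cast this
  obtain ⟨a, ha⟩ : ∃ a, c a ≠ 0 := by
    by_contra h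
    push Not at h
    simp [h] at hsq
  have hge : 1 ≤ c a ^ 2 := by
    have := mul_self_pos.mpr ha
    rw [sq]; omega
  have hsplit := Finset.add_sum_erase Finset.univ (fun ψ => c ψ ^ 2) (Finset.mem_univ a)
  rw [hsq] at hsplit
  have hrest : ∀ ψ, ψ ≠ a → c ψ = 0 := by
    intro ψ hψ
    have h1 : c ψ ^ 2 ≤ ∑ φ ∈ Finset.univ.erase a, c φ ^ 2 :=
      Finset.single_le_sum (f := fun φ => c φ ^ 2) (fun φ _ => sq_nonneg _) (by simp [hψ])
    have h2 : c ψ ^ 2 = 0 := by have := sq_nonneg (c ψ); omega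
    exact pow_eq_zero_iff (two_ne_zero) |>.mp h2
  have hθa : θ = (c a : ℂ) • (a : G → ℂ) := by
    rw [hdec, Finset.sum_eq_single a (fun ψ _ hψ => by simp [hrest ψ hψ]) (by simp)]
  have hca : c a ^ 2 = 1 := by
    have : 0 ≤ ∑ φ ∈ Finset.univ.erase a, c φ ^ 2 := Finset.sum_nonneg fun φ _ => sq_nonneg _
    omega
  obtain ⟨d, hd0, hd⟩ := exists_degree_pos a
  rw [hθa, Pi.smul_apply, hd, smul_eq_mul] at hdeg
  rcases sq_eq_one_iff.mp hca with h | h
  · rw [hθa, h, Int.cast_one, one_smul]; exact a.2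
  · exfalso
    rw [h] at hdeg
    have h' : ((-(d * A : ℕ) : ℤ) : ℂ) = ((B : ℤ) : ℂ) := by push_cast at hdeg ⊢; linear_combination hdeg
    have h'' := Int.cast_injective h'
    have := Nat.mul_pos hd0 hA
    omega

end Cfsg.Agent.Lib.GLFlags
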