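import Mathlib

/-! Counting monic polynomials by their constant coefficient. -/

set_option autoImplicit false

namespace Cfsg.Agent.Lib.GLFlags.CharpolyCount

open Polynomial

variable {F : Type*} [Field F]

theorem card_monic_coeff [Finite F] (P : F → Prop) {n : ℕ} (hn : 1 ≤ n) :
    Nat.card {f : F[X] // (f.Monic ∧ f.natDegree = n) ∧ P (f.coeff 0)} =
      Nat.card {c : F // P c} * Nat.card F ^ (n - 1) := by
  obtain ⟨m, rfl⟩ : ∃ m, n = m + 1 := ⟨n - 1, by omega⟩
  let e : {f : F[X] // f.Monic ∧ f.natDegree = m + 1} ≃ F × (Fin m → F) :=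
    ((monicEquivDegreeLT (m + 1)).trans (degreeLTEquiv F (m + 1)).toEquiv).trans
      (Fin.consEquiv (fun _ => F)).symm
  have he : ∀ f, (e f).1 = f.1.coeff 0 := by
    intro f
    show f.1.eraseLead.coeff ((0 : Fin (m + 1)) : ℕ) = _
    rw [Fin.val_zero, eraseLead_coeff_of_ne]
    rw [f.2.2]; omega
  calc Nat.card {f : F[X] // (f.Monic ∧ f.natDegree = m + 1) ∧ P (f.coeff 0)}
      = Nat.card {f : {f : F[X] // f.Monic ∧ f.natDegree = m + 1} // P (f.1.coeff 0)} :=
        Nat.card_congr (Equiv.subtypeSubtypeEquivSubtypeInter _ (fun f : F[X] => P (f.coeff 0))).symm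
    _ = Nat.card {x : F × (Fin m → F) // P x.1} :=
        Nat.card_congr (e.subtypeEquiv fun f => by rw [he])
    _ = _ := by
        rw [Nat.card_congr (Equiv.prodSubtypeFstEquivSubtypeProd (p := P)), Nat.card_prod, Nat.card_fun,
          Nat.card_fin, Nat.add_sub_cancel]

end Cfsg.Agent.Lib.GLFlags.CharpolyCount
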