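import Mathlib
import Cfsg.Agent.Lib.TransposeConj
import Cfsg.Agent.Lib.InvolutionNorm

/-!
Companion matrices with an invariant symmetric or Hermitian form, from Frobenius functionals on
`F[X]/(f)`.
-/

set_option autoImplicit false

namespace Cfsg.Agent.Lib.GLFlags.CyclicForm

open Polynomial Matrix

variable {F : Type*} [Field F] {f : F[X]}

theorem exists_functional (hf : f ≠ 0) :
    ∃ l : AdjoinRoot f →ₗ[F] F, ∀ x, (∀ y, l (x * y) = 0) → x = 0 := by
  obtain ⟨l, hl⟩ := Cfsg.Agent.Lib.TransposeConj.exists_frobenius_functional hf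
  have hs : ∀ (c : F) (x : AdjoinRoot f), l (c • x) = c * l x := by
    intro c x
    exact l.map_smul c x
  exact ⟨{ toFun := fun x => l x, map_add' := l.map_add, map_smul' := hs }, hl⟩

/-- A companion matrix is self-adjoint for an invertible symmetric matrix. -/
theorem exists_symmetric_pair {h : F[X]} (hh : h.Monic) {n : ℕ} (hn : h.natDegree = n) :
    ∃ P M : Matrix (Fin n) (Fin n) F, Pᵀ = P ∧ IsUnit P ∧ Mᵀ * P = P * M ∧ M.charpoly = h := by
  classical
  subst hn
  let pb := AdjoinRoot.powerBasis hh.ne_zero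
  obtain ⟨l, hl⟩ := exists_functional hh.ne_zero
  let M : Matrix (Fin h.natDegree) (Fin h.natDegree) F := Algebra.leftMulMatrix pb.basis pb.gen
  have hM : M.charpoly = h := by
    show (Algebra.leftMulMatrix pb.basis pb.gen).charpoly = h
    rw [charpoly_leftMulMatrix, AdjoinRoot.minpoly_powerBasis_gen_of_monic hh]
  let P : Matrix (Fin h.natDegree) (Fin h.natDegree) F :=
    Matrix.of fun i j => l (pb.basis i * pb.basis j)
  have hmul : ∀ j, pb.gen * pb.basis j = ∑ k, M k j • pb.basis k := by
    intro j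
    conv_lhs => rw [← pb.basis.sum_repr (pb.gen * pb.basis j)]
    refine Finset.sum_congr rfl fun k _ => ?_
    congr 1
    exact (Algebra.leftMulMatrix_eq_repr_mul pb.basis pb.gen k j).symm
  refine ⟨P, M, ?_, ?_, ?_, hM⟩
  · ext i j
    simp [P, mul_comm]
  · rw [← Matrix.mulVec_injective_iff_isUnit]
    intro a b hab
    rw [← sub_eq_zero]
    set d := a - b with hd
    have hPd : P *ᵥ d = 0 := by rw [hd, Matrix.mulVec_sub, hab, sub_self]
    have hx : (∑ j, d j • pb.basis j) = 0 := by
      refine hl _ fun y => ?_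
      rw [← pb.basis.sum_repr y, Finset.mul_sum, map_sum]
      refine Finset.sum_eq_zero fun i _ => ?_
      rw [mul_smul_comm, map_smul, smul_eq_mul, Finset.sum_mul, map_sum]
      refine mul_eq_zero_of_right _ (Eq.trans ?_ (congrFun hPd i))
      refine Finset.sum_congr rfl fun j _ => ?_
      show l ((d j • pb.basis j) * pb.basis i) = P i j * d j
      rw [smul_mul_assoc, map_smul, smul_eq_mul, mul_comm (pb.basis j), mul_comm]
      rfl
    funext k
    exact Fintype.linearIndependent_iff.1 pb.basis.linearIndependent d hx k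
  · ext i j
    have h1 : (Mᵀ * P) i j = l (pb.gen * pb.basis i * pb.basis j) := by
      rw [hmul i, Finset.sum_mul, map_sum, Matrix.mul_apply]
      refine Finset.sum_congr rfl fun k _ => ?_
      rw [smul_mul_assoc, map_smul, smul_eq_mul]
      rfl
    have h2 : (P * M) i j = l (pb.gen * pb.basis i * pb.basis j) := by
      rw [mul_comm pb.gen, mul_assoc, hmul j, Finset.mul_sum, map_sum, Matrix.mul_apply]
      refine Finset.sum_congr rfl fun k _ => ?_
      rw [mul_smul_comm, map_smul, smul_eq_mul, mul_comm]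
      rfl
    rw [h1, h2]

/-- A monic self-dual polynomial is the charpoly of a matrix preserving a non-degenerate Hermitian matrix. -/
theorem exists_hermitian_pair [Finite F] (σ : F →+* F) (hσ : ∀ x, σ (σ x) = x) {θ : F} (hθ : σ θ - θ ≠ 0)
    (hf : f.Monic) {n : ℕ} (hn : f.natDegree = n) (h0 : f.coeff 0 ≠ 0)
    {ε : F} (hsd : ∀ i ≤ n, σ (f.coeff i) = ε * f.coeff (n - i)) :
    ∃ H C : Matrix (Fin n) (Fin n) F, (H.map σ)ᵀ = H ∧ IsUnit H ∧ (C.map σ)ᵀ * H * C = H ∧ C.charpoly = f := by
  classical
  subst hn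
  haveI : Module.Finite F (AdjoinRoot f) := (AdjoinRoot.powerBasis hf.ne_zero).finite
  haveI : Finite (AdjoinRoot f) := Module.finite_of_finite F
  set r := AdjoinRoot.root f
  have hev : aeval r f = 0 := by rw [AdjoinRoot.aeval_eq, AdjoinRoot.mk_self]
  -- the root is invertible
  obtain ⟨ri, hri⟩ : ∃ ri, r * ri = 1 := by
    refine ⟨-(algebraMap F _ (f.coeff 0)⁻¹) * aeval r f.divX, ?_⟩
    have h : aeval r (Polynomial.X * f.divX + Polynomial.C (f.coeff 0)) = 0 := by
      rw [X_mul_divX_add]; exact hev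
    rw [map_add, map_mul, aeval_X, aeval_C] at h
    have hc : algebraMap F (AdjoinRoot f) (f.coeff 0)⁻¹ * algebraMap F _ (f.coeff 0) = 1 := by
      rw [← map_mul, inv_mul_cancel₀ h0, map_one]
    linear_combination -(algebraMap F (AdjoinRoot f) (f.coeff 0)⁻¹) * h + hc
  have hτ0 : f.eval₂ ((algebraMap F (AdjoinRoot f)).comp σ) ri = 0 := by
    have : r ^ f.natDegree * f.eval₂ ((algebraMap F (AdjoinRoot f)).comp σ) ri =
        algebraMap F _ ε * aeval r f := by
      rw [eval₂_eq_sum_range, aeval_eq_sum_range, Finset.mul_sum, Finset.mul_sum,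
        ← Finset.sum_range_reflect (fun i => algebraMap F (AdjoinRoot f) ε * (f.coeff i • r ^ i))]
      refine Finset.sum_congr rfl fun i hi => ?_
      have hi' : i ≤ f.natDegree := by rw [Finset.mem_range] at hi; omega
      have e : f.natDegree + 1 - 1 - i = f.natDegree - i := by omega
      rw [e, RingHom.comp_apply, hsd i hi', map_mul, Algebra.smul_def]
      nth_rewrite 1 [← Nat.sub_add_cancel hi']
      rw [pow_add]
      calc r ^ (f.natDegree - i) * r ^ i * (algebraMap F _ ε * algebraMap F _ (f.coeff (f.natDegree - i)) * ri ^ i)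
          = algebraMap F _ ε * (algebraMap F _ (f.coeff (f.natDegree - i)) * r ^ (f.natDegree - i)) * (r * ri) ^ i := by ring
        _ = _ := by rw [hri, one_pow, mul_one]
    rw [hev, mul_zero] at this
    have hu : IsUnit r := IsUnit.of_mul_eq_one _ hri
    exact (hu.pow _).mul_right_eq_zero.1 this
  let τ : AdjoinRoot f →+* AdjoinRoot f := AdjoinRoot.lift ((algebraMap F (AdjoinRoot f)).comp σ) ri hτ0
  have hτr : τ r = ri := AdjoinRoot.lift_root hτ0
  have hτc : ∀ c : F, τ (algebraMap F _ c) = algebraMap F _ (σ c) := fun c => AdjoinRoot.lift_of hτ0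
  have hτri : τ ri = r := by
    have h := congrArg τ hri
    rw [map_mul, map_one, hτr] at h
    calc τ ri = r * ri * τ ri := by rw [hri, one_mul]
      _ = r * (ri * τ ri) := by ring
      _ = r := by rw [h, mul_one]
  have hττ : ∀ x, τ (τ x) = x := by
    intro x
    obtain ⟨g, rfl⟩ := AdjoinRoot.mk_surjective x
    induction g using Polynomial.induction_on with
    | C c =>
      have e : (AdjoinRoot.mk f) (C c) = algebraMap F (AdjoinRoot f) c := by
        rw [AdjoinRoot.algebraMap_eq, AdjoinRoot.mk_C]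
      rw [e, hτc, hτc, hσ]
    | add a b ha hb => rw [map_add, map_add, map_add, ha, hb]
    | monomial k c ih =>
      rw [pow_succ, ← mul_assoc, map_mul, map_mul τ, map_mul τ, ih, AdjoinRoot.mk_X, hτr, hτri]
  have hτs : ∀ (c : F) x, τ (c • x) = σ c • τ x := fun c x => by
    rw [Algebra.smul_def, Algebra.smul_def, map_mul, hτc]
  obtain ⟨l, hl⟩ := exists_functional hf.ne_zero
  -- adjust the functional
  let μ : AdjoinRoot f →ₗ[F] F :=
    { toFun := fun x => σ (l (τ x))
      map_add' := fun x y => by rw [map_add, map_add, map_add]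
      map_smul' := fun c x => by
        rw [hτs, map_smul, smul_eq_mul, map_mul, hσ, RingHom.id_apply, smul_eq_mul] }
  let Λ : AdjoinRoot f →ₗ[F] Module.Dual F (AdjoinRoot f) := (LinearMap.mul F (AdjoinRoot f)).compr₂ l
  have hΛ : ∀ x y, Λ x y = l (x * y) := fun x y => rfl
  have hinj : Function.Injective Λ := by
    rw [injective_iff_map_eq_zero]
    exact fun x hx => hl x fun y => by rw [← hΛ, hx]; rfl
  obtain ⟨u, hu⟩ := (LinearMap.injective_iff_surjective_of_finrank_eq_finrank
    Subspace.dual_finrank_eq.symm).1 hinj μ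
  have hu' : ∀ x, σ (l (τ x)) = l (u * x) := fun x => (LinearMap.congr_fun hu x).symm
  have huu : u * τ u = 1 := by
    refine hinj (LinearMap.ext fun x => ?_)
    rw [hΛ, hΛ, one_mul, mul_assoc, ← hu', map_mul, hττ, ← hu', hττ, hσ]
  obtain ⟨b, hb, hub⟩ := Cfsg.Agent.Lib.InvolutionNorm.exists_unit_of_norm_one τ hττ
    (θ := algebraMap F (AdjoinRoot f) θ) (by
      rw [hτc, ← map_sub]
      exact (IsUnit.mk0 _ hθ).map _) huu
  let l' : AdjoinRoot f →ₗ[F] F := l.comp (LinearMap.mulLeft F b)
  have hl'e : ∀ x, l' x = l (b * x) := fun x => rfl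
  have hl' : ∀ x, σ (l' (τ x)) = l' x := fun x => by
    rw [hl'e, hl'e, show b * τ x = τ (τ b * x) by rw [map_mul, hττ], hu', ← mul_assoc, hub]
  have hl'nd : ∀ x, (∀ y, l' (x * y) = 0) → x = 0 := by
    intro x hx
    refine hb.mul_right_eq_zero.1 (hl _ fun y => ?_)
    rw [mul_assoc]
    exact hx y
  let pb := AdjoinRoot.powerBasis hf.ne_zero
  let C : Matrix (Fin f.natDegree) (Fin f.natDegree) F := Algebra.leftMulMatrix pb.basis pb.gen
  have hC : C.charpoly = f := by
    show (Algebra.leftMulMatrix pb.basis pb.gen).charpoly = f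
    rw [charpoly_leftMulMatrix, AdjoinRoot.minpoly_powerBasis_gen_of_monic hf]
  have hmul : ∀ j, r * pb.basis j = ∑ k, C k j • pb.basis k := by
    intro j
    conv_lhs => rw [show r = pb.gen from rfl, ← pb.basis.sum_repr (pb.gen * pb.basis j)]
    refine Finset.sum_congr rfl fun k _ => ?_
    congr 1
    exact (Algebra.leftMulMatrix_eq_repr_mul pb.basis pb.gen k j).symm
  let H : Matrix (Fin f.natDegree) (Fin f.natDegree) F :=
    Matrix.of fun i j => l' (τ (pb.basis i) * pb.basis j)
  refine ⟨H, C, ?_, ?_, ?_, hC⟩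
  · ext i j
    show σ (l' (τ (pb.basis j) * pb.basis i)) = l' (τ (pb.basis i) * pb.basis j)
    rw [show τ (pb.basis j) * pb.basis i = τ (τ (pb.basis i) * pb.basis j) by rw [map_mul, hττ, mul_comm]]
    exact hl' _
  · rw [← Matrix.mulVec_injective_iff_isUnit]
    intro a c hac
    rw [← sub_eq_zero]
    set d := a - c with hd
    have hPd : H *ᵥ d = 0 := by rw [hd, Matrix.mulVec_sub, hac, sub_self]
    have hx : (∑ j, d j • pb.basis j) = 0 := by
      refine hl'nd _ fun y => ?_
      rw [← hττ y, ← pb.basis.sum_repr (τ y), map_sum, Finset.mul_sum, map_sum]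
      refine Finset.sum_eq_zero fun i _ => ?_
      rw [hτs, mul_smul_comm, map_smul, smul_eq_mul, Finset.sum_mul, map_sum]
      refine mul_eq_zero_of_right _ (Eq.trans ?_ (congrFun hPd i))
      refine Finset.sum_congr rfl fun j _ => ?_
      show l' ((d j • pb.basis j) * τ (pb.basis i)) = H i j * d j
      rw [smul_mul_assoc, map_smul, smul_eq_mul, mul_comm (pb.basis j), mul_comm]
      rfl
    funext k
    exact Fintype.linearIndependent_iff.1 pb.basis.linearIndependent d hx k
  · ext i j
    have e : l' (τ (r * pb.basis i) * (r * pb.basis j)) = H i j := by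
      rw [map_mul τ, hτr, show ri * τ (pb.basis i) * (r * pb.basis j) =
        (r * ri) * (τ (pb.basis i) * pb.basis j) by ring, hri, one_mul]
      rfl
    rw [← e, hmul i, hmul j, map_sum, Finset.mul_sum, map_sum, Matrix.mul_apply]
    refine Finset.sum_congr rfl fun k _ => ?_
    rw [Finset.sum_mul, map_sum, Matrix.mul_apply, Finset.sum_mul]
    refine Finset.sum_congr rfl fun m _ => ?_
    rw [hτs, smul_mul_assoc, mul_smul_comm, map_smul, map_smul, smul_eq_mul, smul_eq_mul,
      Matrix.transpose_apply, Matrix.map_apply]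
    show σ (C m i) * l' (τ (pb.basis m) * pb.basis k) * C k j = _
    ring

end Cfsg.Agent.Lib.GLFlags.CyclicForm
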