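import Mathlib
import Cfsg.Agent.Lib.Symplectic.Order
import Cfsg.Agent.Lib.InvolutionNorm

/-!
Two non-degenerate alternating forms preserved by the same semisimple operator over a finite field
are isometric by a map commuting with the operator.
-/

set_option autoImplicit false

namespace Cfsg.Agent.Lib.GLFlags.SympConj

open Module Cfsg.Agent.Lib.Symplectic

universe u v

variable {F : Type u} [Field F] {V : Type v} [AddCommGroup V] [Module F V]

/-- An isometry between `B` and `B'` commuting with `T`. -/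
def Good (T : Module.End F V) (B B' : V →ₗ[F] V →ₗ[F] F) : Prop :=
  ∃ e : V ≃ₗ[F] V, (∀ x, e (T x) = T (e x)) ∧ ∀ x y, B' (e x) (e y) = B x y

theorem restr_nondeg {B : V →ₗ[F] V →ₗ[F] F} (hB : IsSympForm B) {U₁ U₂ : Submodule F V}
    (h : IsCompl U₁ U₂) (ho : ∀ x ∈ U₁, ∀ y ∈ U₂, B x y = 0) : IsSympForm (restr B U₁) where
  self x := hB.self _
  nondeg x hx := by
    refine Subtype.ext (hB.nondeg _ fun y => ?_)
    obtain ⟨a, ha, b, hb, rfl⟩ := Submodule.mem_sup.1 (h.sup_eq_top ▸ Submodule.mem_top : y ∈ U₁ ⊔ U₂)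
    rw [map_add, ho _ x.2 b hb, add_zero]
    exact hx ⟨a, ha⟩

theorem good_glue {T : Module.End F V} {B B' : V →ₗ[F] V →ₗ[F] F} (hB : IsSympForm B)
    (hB' : IsSympForm B') {U₁ U₂ : Submodule F V} (h : IsCompl U₁ U₂)
    (h₁ : ∀ x ∈ U₁, T x ∈ U₁) (h₂ : ∀ x ∈ U₂, T x ∈ U₂)
    (ho : ∀ x ∈ U₁, ∀ y ∈ U₂, B x y = 0) (ho' : ∀ x ∈ U₁, ∀ y ∈ U₂, B' x y = 0)
    (g₁ : Good (T.restrict h₁) (restr B U₁) (restr B' U₁))
    (g₂ : Good (T.restrict h₂) (restr B U₂) (restr B' U₂)) : Good T B B' := by
  obtain ⟨e₁, c₁, i₁⟩ := g₁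
  obtain ⟨e₂, c₂, i₂⟩ := g₂
  let P := Submodule.prodEquivOfIsCompl U₁ U₂ h
  have hP : ∀ a b, P (a, b) = (a : V) + b := fun a b => rfl
  let e := P.symm.trans ((e₁.prodCongr e₂).trans P)
  have he : ∀ a b, e (P (a, b)) = P (e₁ a, e₂ b) := fun a b => by simp [e]
  refine ⟨e, fun x => ?_, fun x y => ?_⟩
  · obtain ⟨⟨a, b⟩, rfl⟩ := P.surjective x
    have hTP : ∀ a b, T (P (a, b)) = P (T.restrict h₁ a, T.restrict h₂ b) := by
      intro a b; rw [hP, hP, map_add]; rfl
    rw [hTP, he, he, hTP, c₁, c₂]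
  · obtain ⟨⟨a, b⟩, rfl⟩ := P.surjective x
    obtain ⟨⟨a', b'⟩, rfl⟩ := P.surjective y
    have s : ∀ {C : V →ₗ[F] V →ₗ[F] F}, IsSympForm C → (∀ x ∈ U₁, ∀ y ∈ U₂, C x y = 0) →
        ∀ (a a' : U₁) (b b' : U₂), C (P (a, b)) (P (a', b')) =
          restr C U₁ a a' + restr C U₂ b b' := by
      intro C hC hoC a a' b b'
      simp only [hP, map_add, LinearMap.add_apply, restr_apply, hoC _ a.2 _ b'.2,
        hC.comm_eq_zero.1 (hoC _ a'.2 _ b.2)]
      ring
    rw [he, he, s hB' ho', s hB ho, i₁, i₂]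

/-- The scalar case. -/
theorem good_of_scalar [FiniteDimensional F V] {T : Module.End F V} {B B' : V →ₗ[F] V →ₗ[F] F}
    (hB : IsSympForm B) (hB' : IsSympForm B') (c : F) (hT : ∀ x, T x = c • x) : Good T B B' := by
  obtain ⟨e, he⟩ := exists_isometry hB hB' rfl
  exact ⟨e, fun x => by rw [hT, hT, map_smul], he⟩

theorem exists_rep [FiniteDimensional F V] {B : V →ₗ[F] V →ₗ[F] F} (hB : IsSympForm B) :
    ∃ Bd : V ≃ₗ[F] Module.Dual F V, ∀ x y, Bd x y = B x y := by
  have hinj : Function.Injective B := by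
    rw [injective_iff_map_eq_zero]
    exact fun x hx => hB.nondeg x fun y => by rw [hx]; rfl
  refine ⟨LinearEquiv.ofBijective B ⟨hinj, ?_⟩, fun x y => rfl⟩
  exact (LinearMap.injective_iff_surjective_of_finrank_eq_finrank
    Subspace.dual_finrank_eq.symm).1 hinj

theorem isUnit_of_isUnit_val [Finite V] {L : Subalgebra F (Module.End F V)} {a : Module.End F V}
    (ha : a ∈ L) (hu : IsUnit a) : IsUnit (⟨a, ha⟩ : L) := by
  have : Finite (Module.End F V) := Finite.of_injective _ DFunLike.coe_injective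
  obtain ⟨u, rfl⟩ := hu
  refine isUnit_iff_exists.2 ⟨⟨(u : Module.End F V) ^ (orderOf u - 1), L.pow_mem ha _⟩, ?_, ?_⟩ <;>
    refine Subtype.ext ?_
  · show (u : Module.End F V) * (u : Module.End F V) ^ (orderOf u - 1) = 1
    rw [← pow_succ', Nat.sub_add_cancel (orderOf_pos u), ← Units.val_pow_eq_pow_val, pow_orderOf_eq_one,
      Units.val_one]
  · show (u : Module.End F V) ^ (orderOf u - 1) * (u : Module.End F V) = 1
    rw [← pow_succ, Nat.sub_add_cancel (orderOf_pos u), ← Units.val_pow_eq_pow_val, pow_orderOf_eq_one,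
      Units.val_one]

/-- The case without eigenvalues ±1. -/
theorem good_of_regular [Finite V] [FiniteDimensional F V] {T : Module.End F V}
    {B B' : V →ₗ[F] V →ₗ[F] F} (hB : IsSympForm B) (hB' : IsSympForm B') {N : ℕ} (hN : N ≠ 0)
    (hTN : T ^ N = 1) (hT : ∀ x y, B (T x) (T y) = B x y) (hT' : ∀ x y, B' (T x) (T y) = B' x y)
    (hreg : ∀ x, T (T x) = x → x = 0) : Good T B B' := by
  classical
  obtain ⟨Bd, hBd⟩ := exists_rep hB
  let H : Module.End F V := Bd.symm.toLinearMap.comp B'
  have hH : ∀ x y, B (H x) y = B' x y := fun x y => by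
    rw [← hBd]; simp [H]
  have ext_left : ∀ a b : V, (∀ y, B a y = B b y) → a = b := fun a b h =>
    sub_eq_zero.1 (hB.nondeg _ fun y => by rw [map_sub, LinearMap.sub_apply, h, sub_self])
  have hTinv : ∀ y, T ((T ^ (N - 1)) y) = y := fun y => by
    rw [← Module.End.mul_apply, ← pow_succ', Nat.sub_add_cancel (Nat.pos_of_ne_zero hN), hTN,
      Module.End.one_apply]
  have hHT : H * T = T * H := by
    refine LinearMap.ext fun x => ext_left _ _ fun y => ?_
    rw [Module.End.mul_apply, Module.End.mul_apply, hH]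
    conv_lhs => rw [← hTinv y, hT', ← hH, ← hT, hTinv]
  let st : Module.End F V → Module.End F V := fun A =>
    Bd.symm.toLinearMap.comp (A.dualMap.comp Bd.toLinearMap)
  have hst : ∀ A x y, B (st A x) y = B x (A y) := fun A x y => by
    rw [← hBd, ← hBd]; simp [st]
  have st_ext : ∀ A C : Module.End F V, (∀ x y, B (C x) y = B x (A y)) → st A = C := fun A C h =>
    LinearMap.ext fun x => ext_left _ _ fun y => by rw [hst, h]
  have hstT : st T = T ^ (N - 1) := st_ext _ _ fun x y => by
    rw [← hT, hTinv]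
  have hstH : st H = H := st_ext _ _ fun x y => by
    rw [hH, hB.swap x (H y), hH, hB'.swap x y]
  have hst_mul : ∀ A C, st (A * C) = st C * st A := fun A C => st_ext _ _ fun x y => by
    rw [Module.End.mul_apply, hst, hst, Module.End.mul_apply]
  have hst_add : ∀ A C, st (A + C) = st A + st C := fun A C => st_ext _ _ fun x y => by
    simp [hst]
  have hst_alg : ∀ c : F, st (algebraMap F _ c) = algebraMap F _ c := fun c => st_ext _ _ fun x y => by
    simp [Module.algebraMap_end_apply]
  have hst_st : ∀ A, st (st A) = A := fun A => st_ext _ _ fun x y => by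
    rw [hB.swap (A x) y, ← hst, ← hB.swap x]
  let L := Algebra.adjoin F ({T, H} : Set (Module.End F V))
  letI : CommRing L := Algebra.adjoinCommRingOfComm F fun a ha b hb => by
    simp only [Set.mem_insert_iff, Set.mem_singleton_iff] at ha hb
    rcases ha with rfl | rfl <;> rcases hb with rfl | rfl <;> first | rfl | exact hHT | exact hHT.symm
  have hTL : T ∈ L := Algebra.subset_adjoin (Set.mem_insert _ _)
  have hHL : H ∈ L := Algebra.subset_adjoin (Set.mem_insert_of_mem _ rfl)
  have hstL : ∀ x : Module.End F V, x ∈ L → st x ∈ L := by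
    intro x hx
    induction hx using Algebra.adjoin_induction with
    | mem y hy =>
      simp only [Set.mem_insert_iff, Set.mem_singleton_iff] at hy
      rcases hy with rfl | rfl
      · rw [hstT]; exact L.pow_mem hTL _
      · rw [hstH]; exact hHL
    | algebraMap c => rw [hst_alg]; exact L.algebraMap_mem _
    | add a b _ _ ha hb => rw [hst_add]; exact L.add_mem ha hb
    | mul a b _ _ ha hb => rw [hst_mul]; exact L.mul_mem hb ha
  have hst_one : st 1 = 1 := st_ext _ _ fun x y => rfl
  have hst_zero : st 0 = 0 := st_ext _ _ fun x y => by simp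
  let τ : L →+* L :=
    { toFun := fun x => ⟨st x.1, hstL x.1 x.2⟩
      map_one' := Subtype.ext hst_one
      map_mul' := fun x y => Subtype.ext (by
        show st (x.1 * y.1) = st x.1 * st y.1
        have h1 := congrArg Subtype.val (mul_comm x y)
        rw [show x.1 * y.1 = y.1 * x.1 from h1, hst_mul])
      map_zero' := Subtype.ext hst_zero
      map_add' := fun x y => Subtype.ext (hst_add x.1 y.1) }
  have : Finite (Module.End F V) := Finite.of_injective _ DFunLike.coe_injective
  have unit_of_inj : ∀ A : Module.End F V, Function.Injective A → IsUnit A := fun A hA =>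
    (Module.End.isUnit_iff A).2 ⟨hA, LinearMap.injective_iff_surjective.1 hA⟩
  obtain ⟨b, hb, hbe⟩ := Cfsg.Agent.Lib.InvolutionNorm.exists_mul_eq τ
    (fun x => Subtype.ext (hst_st x.1)) (θ := (⟨T, hTL⟩ : L)) (h := ⟨H, hHL⟩) (by
      refine isUnit_of_isUnit_val (L := L) (a := st T - T) (L.sub_mem (hstL T hTL) hTL) (unit_of_inj _ ?_)
      rw [injective_iff_map_eq_zero]
      intro x hx
      rw [LinearMap.sub_apply, sub_eq_zero, hstT] at hx
      refine hreg x ?_
      rw [← hx, hTinv]) (by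
      refine isUnit_of_isUnit_val hHL (unit_of_inj H ?_)
      rw [injective_iff_map_eq_zero]
      intro x hx
      exact hB'.nondeg x fun y => by rw [← hH, hx, map_zero, LinearMap.zero_apply])
    (Subtype.ext hstH)
  have hbe' : st b.1 * b.1 = H := by
    rw [mul_comm b (τ b)] at hbe
    exact congrArg Subtype.val hbe
  obtain ⟨v, hv⟩ := hb.map L.val
  have hvb : (v : Module.End F V) = b.1 := hv
  let e : V ≃ₗ[F] V := (LinearMap.GeneralLinearGroup.generalLinearEquiv F V v⁻¹)
  have he : ∀ x, b.1 (e x) = x := fun x => by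
    rw [← hvb]
    show ((v : Module.End F V) * (v⁻¹ : (Module.End F V)ˣ).1) x = x
    rw [Units.mul_inv, Module.End.one_apply]
  have hbT : ∀ x, b.1 (T x) = T (b.1 x) := fun x =>
    LinearMap.congr_fun (congrArg Subtype.val (mul_comm b (⟨T, hTL⟩ : L))) x
  have hbinj : Function.Injective b.1 := by
    rw [← hvb]; exact ((Module.End.isUnit_iff _).1 v.isUnit).1
  refine ⟨e, fun x => hbinj ?_, fun x y => ?_⟩
  · rw [he, hbT, he]
  · rw [← hH, ← hbe', Module.End.mul_apply, hst, he, he]

/-- Two invariant forms of a semisimple operator are isometric equivariantly. -/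
theorem good [Finite F] [Finite V] [FiniteDimensional F V] {T : Module.End F V}
    {B B' : V →ₗ[F] V →ₗ[F] F} (hB : IsSympForm B) (hB' : IsSympForm B') {N : ℕ} (hN : (N : F) ≠ 0)
    (hTN : T ^ N = 1) (hT : ∀ x y, B (T x) (T y) = B x y) (hT' : ∀ x y, B' (T x) (T y) = B' x y) :
    Good T B B' := by
  classical
  have hN0 : N ≠ 0 := fun h => hN (by rw [h, Nat.cast_zero])
  let u : Module.End F V := T * T - 1
  have hu : ∀ x, u x = T (T x) - x := fun x => rfl
  have hss : T.IsSemisimple := Module.End.isSemisimple_of_squarefree_aeval_eq_zero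
    (p := Polynomial.X ^ N - Polynomial.C (1 : F)) (Polynomial.separable_X_pow_sub_C 1 hN one_ne_zero).squarefree
    (by simp [hTN])
  let V₀ := LinearMap.ker u
  have h₀ : ∀ x ∈ V₀, T x ∈ V₀ := fun x hx => by
    rw [LinearMap.mem_ker, hu, ← map_sub]
    rw [LinearMap.mem_ker, hu] at hx
    rw [hx, map_zero]
  obtain ⟨V₁, hV₁, hc⟩ := Module.End.isSemisimple_iff.1 hss V₀ ((Module.End.mem_invtSubmodule T).2 h₀)
  have h₁ : ∀ x ∈ V₁, T x ∈ V₁ := fun x hx => (Module.End.mem_invtSubmodule T).1 hV₁ hx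
  have hreg : ∀ x ∈ V₁, T (T x) = x → x = 0 := fun x hx h =>
    Submodule.disjoint_def.1 hc.disjoint x (by rw [LinearMap.mem_ker, hu, h, sub_self]) hx
  have hsurj : ∀ y ∈ V₁, ∃ z : V, u z = y := by
    intro y hy
    let u₁ : Module.End F V₁ := u.restrict fun x hx => V₁.sub_mem (h₁ _ (h₁ x hx)) hx
    have hi : Function.Injective u₁ := by
      rw [injective_iff_map_eq_zero]
      intro x hx
      exact Subtype.ext (hreg x.1 x.2 (sub_eq_zero.1 (congrArg Subtype.val hx)))
    obtain ⟨z, hz⟩ := LinearMap.injective_iff_surjective.1 hi ⟨y, hy⟩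
    exact ⟨z.1, congrArg Subtype.val hz⟩
  have horth : ∀ {C : V →ₗ[F] V →ₗ[F] F}, (∀ x y, C (T x) (T y) = C x y) →
      ∀ x ∈ V₀, ∀ y ∈ V₁, C x y = 0 := by
    intro C hC x hx y hy
    obtain ⟨z, rfl⟩ := hsurj y hy
    rw [LinearMap.mem_ker, hu, sub_eq_zero] at hx
    rw [hu, map_sub, sub_eq_zero]
    conv_lhs => rw [← hx, hC, hC]
  have horth' : ∀ {C : V →ₗ[F] V →ₗ[F] F}, IsSympForm C → (∀ x y, C (T x) (T y) = C x y) →
      ∀ x ∈ V₁, ∀ y ∈ V₀, C x y = 0 := fun hC h x hx y hy => hC.comm_eq_zero.1 (horth h y hy x hx)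
  refine good_glue hB hB' hc h₀ h₁ (horth hT) (horth hT') ?_ ?_
  · -- on the kernel of T² - 1
    set W := V₀
    set T₀ := T.restrict h₀ with hT₀
    have hsq : ∀ x : W, T₀ (T₀ x) = x := fun x => Subtype.ext (by
      have := x.2
      rw [LinearMap.mem_ker, hu, sub_eq_zero] at this
      exact this)
    have hC := restr_nondeg hB hc (horth hT)
    have hC' := restr_nondeg hB' hc (horth hT')
    by_cases h2 : (2 : F) = 0
    · have hpow : ∀ k : ℕ, ∀ x : W, (T₀ ^ (2 * k)) x = x := by
        intro k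
        induction k with
        | zero => intro x; rfl
        | succ k ih =>
          intro x
          rw [show 2 * (k + 1) = 2 * k + 1 + 1 by ring, pow_succ, pow_succ, Module.End.mul_apply,
            Module.End.mul_apply, hsq, ih]
      have hodd : Odd N := Nat.not_even_iff_odd.1 fun ⟨k, hk⟩ => hN (by
        rw [hk, ← two_mul, Nat.cast_mul, Nat.cast_two, h2, zero_mul])
      obtain ⟨k, rfl⟩ := hodd
      refine good_of_scalar hC hC' 1 fun x => ?_
      have e : T₀ ^ (2 * k + 1) = 1 := by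
        rw [hT₀, Module.End.pow_restrict]
        ext z : 2
        simp [hTN]
      have := LinearMap.congr_fun e x
      rw [pow_succ, Module.End.mul_apply, hpow, Module.End.one_apply] at this
      rw [this, one_smul]
    · let Wp := LinearMap.ker (T₀ - 1)
      let Wm := LinearMap.ker (T₀ + 1)
      have hp : ∀ x, x ∈ Wp ↔ T₀ x = x := fun x => by
        simp [Wp, LinearMap.mem_ker, sub_eq_zero]
      have hm : ∀ x, x ∈ Wm ↔ T₀ x = -x := fun x => by
        simp [Wm, LinearMap.mem_ker, add_eq_zero_iff_eq_neg]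
      have hpm : IsCompl Wp Wm := by
        constructor
        · rw [Submodule.disjoint_def]
          intro x hx hx'
          rw [hp] at hx; rw [hm, hx] at hx'
          have h4 : (2 : F) • x = 0 := by rw [two_smul]; exact add_eq_zero_iff_eq_neg.2 hx'
          exact (smul_eq_zero.1 h4).resolve_left h2
        · rw [codisjoint_iff, eq_top_iff]
          intro x _
          refine Submodule.mem_sup.2 ⟨(2 : F)⁻¹ • (x + T₀ x), ?_, (2 : F)⁻¹ • (x - T₀ x), ?_, ?_⟩
          · rw [hp, map_smul, map_add, hsq, add_comm]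
          · rw [hm, map_smul, map_sub, hsq, ← smul_neg, neg_sub]
          · rw [← smul_add, add_add_sub_cancel, ← two_smul F, smul_smul, inv_mul_cancel₀ h2, one_smul]
      have hop : ∀ {C : V →ₗ[F] V →ₗ[F] F}, (∀ x y, C (T x) (T y) = C x y) →
          ∀ x ∈ Wp, ∀ y ∈ Wm, restr C W x y = 0 := by
        intro C h x hx y hy
        have e : restr C W (T₀ x) (T₀ y) = restr C W x y := h x.1 y.1
        rw [(hp x).1 hx, (hm y).1 hy, map_neg] at e
        have h4 : (2 : F) * restr C W x y = 0 := by linear_combination -e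
        exact (mul_eq_zero.1 h4).resolve_left h2
      have hop' : ∀ {C : V →ₗ[F] V →ₗ[F] F}, IsSympForm (restr C W) → (∀ x y, C (T x) (T y) = C x y) →
          ∀ x ∈ Wm, ∀ y ∈ Wp, restr C W x y = 0 := fun hC h x hx y hy =>
        hC.comm_eq_zero.1 (hop h y hy x hx)
      have hTp : ∀ x ∈ Wp, T₀ x ∈ Wp := fun x hx => by rw [(hp x).1 hx]; exact hx
      have hTm : ∀ x ∈ Wm, T₀ x ∈ Wm := fun x hx => by rw [(hm x).1 hx]; exact Wm.neg_mem hx
      refine good_glue hC hC' hpm hTp hTm (hop hT) (hop hT') ?_ ?_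
      · exact good_of_scalar (restr_nondeg hC hpm (hop hT)) (restr_nondeg hC' hpm (hop hT')) 1
          fun x => Subtype.ext (by rw [LinearMap.restrict_apply, one_smul]; exact (hp x.1).1 x.2)
      · exact good_of_scalar (restr_nondeg hC hpm.symm (hop' hC hT))
          (restr_nondeg hC' hpm.symm (hop' hC' hT')) (-1)
          fun x => Subtype.ext (by rw [LinearMap.restrict_apply, neg_one_smul]; exact (hm x.1).1 x.2)
  · -- on the complement
    refine good_of_regular (restr_nondeg hB hc.symm (horth' hB hT)) (restr_nondeg hB' hc.symm (horth' hB' hT'))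
      hN0 ?_ (fun x y => hT x.1 y.1) (fun x y => hT' x.1 y.1)
      (fun x hx => Subtype.ext (hreg x.1 x.2 (congrArg Subtype.val hx)))
    rw [Module.End.pow_restrict]
    ext z : 2
    simp [hTN]

end Cfsg.Agent.Lib.GLFlags.SympConj
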