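import Mathlib

/-!
Elements of order prime to the characteristic in GL_n over a finite field: conjugate iff the
characteristic polynomials agree, and every monic polynomial with non-zero constant term occurs.
-/

set_option autoImplicit false

namespace Cfsg.Agent.Lib.GLFlags.SemisimpleClasses

open Polynomial Module

universe u v

variable {F : Type u} [Field F]

theorem natCast_ne_zero_of_coprime {p : ℕ} [hp : Fact p.Prime] [CharP F p] {N : ℕ} (h : N.Coprime p) :
    (N : F) ≠ 0 := fun h0 =>
  (hp.out.coprime_iff_not_dvd.mp h.symm) ((CharP.cast_eq_zero_iff F p N).mp h0)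

theorem det_aeval_eq_zero {ι : Type*} [Fintype ι] [DecidableEq ι] (A : Matrix ι ι F) {f : F[X]}
    (hf : Irreducible f) (h : f ∣ A.charpoly) : (aeval A f).det = 0 := by
  haveI : Fact (Irreducible f) := ⟨hf⟩
  let i : F →ₐ[F] AdjoinRoot f := Algebra.ofId F (AdjoinRoot f)
  have hroot : aeval (AdjoinRoot.root f) A.charpoly = 0 := by
    rw [AdjoinRoot.aeval_eq, AdjoinRoot.mk_eq_zero]
    exact h
  have hdet : (Matrix.scalar ι (AdjoinRoot.root f) - i.mapMatrix A).det = 0 := by
    rw [← Matrix.eval_charpoly, show i.mapMatrix A = A.map (i : F →+* AdjoinRoot f) from rfl, Matrix.charpoly_map, eval_map]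
    exact hroot
  obtain ⟨v, hv0, hv⟩ := Matrix.exists_mulVec_eq_zero_iff.mpr hdet
  have hAv : (i.mapMatrix A).mulVec v = AdjoinRoot.root f • v := by
    rw [Matrix.sub_mulVec, sub_eq_zero] at hv
    rw [← hv]
    ext j
    simp [Matrix.mulVec_diagonal]
  have key : ∀ g : F[X], (aeval (i.mapMatrix A) g).mulVec v = aeval (AdjoinRoot.root f) g • v := by
    intro g
    induction g using Polynomial.induction_on with
    | C a =>
      rw [aeval_C, aeval_C, Algebra.algebraMap_eq_smul_one a, Matrix.smul_mulVec, Matrix.one_mulVec,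
        algebraMap_smul]
    | add a b ha hb => rw [map_add, map_add, Matrix.add_mulVec, ha, hb, add_smul]
    | monomial n a ih =>
      rw [pow_succ, ← mul_assoc, map_mul, map_mul (aeval (AdjoinRoot.root f)), aeval_X, aeval_X,
        ← Matrix.mulVec_mulVec, hAv, Matrix.mulVec_smul, ih, smul_smul, mul_comm]
  have h0 := key f
  rw [AdjoinRoot.aeval_eq, AdjoinRoot.mk_self, zero_smul, Polynomial.aeval_algHom_apply] at h0
  have hz := Matrix.exists_mulVec_eq_zero_iff.mp ⟨v, hv0, h0⟩
  rw [← AlgHom.map_det] at hz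
  exact (map_eq_zero _).mp hz

section Block

variable {V : Type v} [AddCommGroup V] [Module F V] [FiniteDimensional F V]

theorem exists_ker_of_dvd_charpoly (T : Module.End F V) {f : F[X]} (hf : Irreducible f)
    (h : f ∣ T.charpoly) : ∃ w : V, w ≠ 0 ∧ aeval T f w = 0 := by
  classical
  let b := Module.Free.chooseBasis F V
  rw [← LinearMap.charpoly_toMatrix T b] at h
  have hd := det_aeval_eq_zero _ hf h
  rw [show LinearMap.toMatrix b b T = LinearMap.toMatrixAlgEquiv b T from rfl,
    Polynomial.aeval_algHom_apply] at hd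
  have : LinearMap.det (aeval T f) = 0 := by
    rw [← LinearMap.det_toMatrix b]; exact hd
  obtain ⟨w, hw, hw0⟩ := Submodule.exists_mem_ne_zero_of_ne_bot
    (LinearMap.bot_lt_ker_of_det_eq_zero this).ne'
  exact ⟨w, hw0, hw⟩

/-- A semisimple operator splits off the block of any irreducible factor of its charpoly. -/
theorem exists_block (T : Module.End F V) {N : ℕ} (hN : (N : F) ≠ 0) (hT : T ^ N = 1) {f : F[X]}
    (hf : Irreducible f) (h : f ∣ T.charpoly) :
    ∃ (U : Submodule F V) (S : Module.End F U), S ^ N = 1 ∧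
      ∃ Q : (AdjoinRoot f × U) ≃ₗ[F] V,
        T = Q.conj ((LinearMap.mulLeft F (AdjoinRoot.root f)).prodMap S) := by
  classical
  haveI : Fact (Irreducible f) := ⟨hf⟩
  obtain ⟨w, hw0, hw⟩ := exists_ker_of_dvd_charpoly T hf h
  let ψ : F[X] →ₗ[F] V := (LinearMap.applyₗ w).comp (aeval T).toLinearMap
  let μ : F[X] →ₗ[F] AdjoinRoot f := (AdjoinRoot.mkₐ f).toLinearMap
  have hμ : Function.Surjective μ := AdjoinRoot.mk_surjective
  have hker : LinearMap.ker μ ≤ LinearMap.ker ψ := by
    intro g hg
    rw [LinearMap.mem_ker] at hg ⊢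
    obtain ⟨c, rfl⟩ := AdjoinRoot.mk_eq_zero.mp (show AdjoinRoot.mk f g = 0 from hg)
    show aeval T (f * c) w = 0
    rw [mul_comm, map_mul, Module.End.mul_apply, hw, map_zero]
  let φ : AdjoinRoot f →ₗ[F] V :=
    ((LinearMap.ker μ).liftQ ψ hker).comp (μ.quotKerEquivOfSurjective hμ).symm.toLinearMap
  have hφ : ∀ g, φ (AdjoinRoot.mk f g) = aeval T g w := by
    intro g
    have : (μ.quotKerEquivOfSurjective hμ).symm (AdjoinRoot.mk f g) = Submodule.Quotient.mk g := by
      rw [LinearEquiv.symm_apply_eq]; rfl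
    simp only [φ, LinearMap.comp_apply, LinearEquiv.coe_coe, this, Submodule.liftQ_apply]
    rfl
  have hφinj : Function.Injective φ := by
    rw [injective_iff_map_eq_zero]
    intro a ha
    obtain ⟨g, rfl⟩ := AdjoinRoot.mk_surjective a
    rw [hφ] at ha
    by_contra hg
    obtain ⟨c, d, hcd⟩ := hf.coprime_iff_not_dvd.mpr fun hd => hg (AdjoinRoot.mk_eq_zero.mpr hd)
    apply hw0
    have := congrArg (fun r : F[X] => aeval T r w) hcd
    simpa [map_add, map_mul, ha, hw] using this.symm
  have hφT : ∀ a, φ (AdjoinRoot.root f * a) = T (φ a) := by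
    intro a
    obtain ⟨g, rfl⟩ := AdjoinRoot.mk_surjective a
    rw [← AdjoinRoot.mk_X, ← map_mul, hφ, hφ, map_mul, aeval_X, Module.End.mul_apply]
  let W := LinearMap.range φ
  have hW : W ∈ Module.End.invtSubmodule T := by
    rw [Module.End.mem_invtSubmodule]
    rintro _ ⟨a, rfl⟩
    exact ⟨AdjoinRoot.root f * a, hφT a⟩
  have hss : T.IsSemisimple := Module.End.isSemisimple_of_squarefree_aeval_eq_zero
    (p := X ^ N - C (1 : F)) (separable_X_pow_sub_C 1 hN one_ne_zero).squarefree (by simp [hT])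
  obtain ⟨U, hU, hWU⟩ := Module.End.isSemisimple_iff.1 hss W hW
  have hU' : ∀ x ∈ U, T x ∈ U := fun x hx => (Module.End.mem_invtSubmodule T).1 hU hx
  refine ⟨U, T.restrict hU', ?_, ?_⟩
  · rw [Module.End.pow_restrict]
    ext x
    simp [hT]
  · let Q := ((LinearEquiv.ofInjective φ hφinj).prodCongr (LinearEquiv.refl F U)).trans
      (Submodule.prodEquivOfIsCompl W U hWU)
    refine ⟨Q, LinearMap.ext fun x => ?_⟩
    obtain ⟨⟨a, b⟩, rfl⟩ := Q.surjective x
    rw [LinearEquiv.conj_apply_apply, Q.symm_apply_apply]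
    have e : ∀ a b, Q (a, b) = φ a + (b : V) := fun a b => rfl
    rw [LinearMap.prodMap_apply, e, e, map_add, LinearMap.mulLeft_apply, hφT]
    rfl

end Block

/-- Semisimple operators of finite order with the same charpoly are similar. -/
theorem exists_conj_of_charpoly {N : ℕ} (hN : (N : F) ≠ 0) :
    ∀ {m : ℕ} {V V' : Type u} [AddCommGroup V] [Module F V] [FiniteDimensional F V]
      [AddCommGroup V'] [Module F V'] [FiniteDimensional F V'] (T : Module.End F V) (T' : Module.End F V'),
      finrank F V = m → T ^ N = 1 → T' ^ N = 1 → T.charpoly = T'.charpoly →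
      ∃ e : V ≃ₗ[F] V', e.conj T = T' := by
  intro m
  induction m using Nat.strong_induction_on with
  | _ m ih =>
    intro V V' _ _ _ _ _ _ T T' hm hT hT' hc
    have hdeg : finrank F V' = m := by
      rw [← LinearMap.charpoly_natDegree T', ← hc, LinearMap.charpoly_natDegree, hm]
    rcases Nat.eq_zero_or_pos m with rfl | hm0
    · haveI := Module.finrank_zero_iff.mp hdeg
      exact ⟨LinearEquiv.ofFinrankEq V V' (hm.trans hdeg.symm), LinearMap.ext fun x => Subsingleton.elim _ _⟩
    · have hnu : ¬ IsUnit T.charpoly := by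
        intro h
        have := natDegree_eq_zero_of_isUnit h
        rw [LinearMap.charpoly_natDegree, hm] at this
        omega
      obtain ⟨f, hf, hfd⟩ := WfDvdMonoid.exists_irreducible_factor hnu (LinearMap.charpoly_monic T).ne_zero
      haveI : Fact (Irreducible f) := ⟨hf⟩
      haveI : Module.Finite F (AdjoinRoot f) := (AdjoinRoot.powerBasis hf.ne_zero).finite
      obtain ⟨U, S, hS, Q, rfl⟩ := exists_block T hN hT hf hfd
      obtain ⟨U', S', hS', Q', rfl⟩ := exists_block T' hN hT' hf (hc ▸ hfd)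
      rw [LinearEquiv.charpoly_conj, LinearEquiv.charpoly_conj, LinearMap.charpoly_prodMap,
        LinearMap.charpoly_prodMap] at hc
      have hcS := mul_left_cancel₀ (LinearMap.charpoly_monic _).ne_zero hc
      have hlt : finrank F U < m := by
        have h1 := Q.finrank_eq
        rw [finrank_prod, hm] at h1
        have h2 : 0 < finrank F (AdjoinRoot f) := Module.finrank_pos
        omega
      obtain ⟨e, he⟩ := ih _ hlt S S' rfl hS hS' hcS
      refine ⟨Q.symm.trans (((LinearEquiv.refl F (AdjoinRoot f)).prodCongr e).trans Q'), LinearMap.ext fun x => ?_⟩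
      subst he
      simp [LinearEquiv.conj_apply_apply]

section Matrix

variable {n : ℕ}

/-- p'-elements of GL_n with equal charpolys are conjugate. -/
theorem isConj_of_charpoly {p : ℕ} [Fact p.Prime] [CharP F p] (g h : GL (Fin n) F)
    (hg : (orderOf g).Coprime p) (hh : (orderOf h).Coprime p)
    (hc : (g : Matrix (Fin n) (Fin n) F).charpoly = (h : Matrix (Fin n) (Fin n) F).charpoly) :
    IsConj g h := by
  have hN : ((orderOf g * orderOf h : ℕ) : F) ≠ 0 := natCast_ne_zero_of_coprime (hg.mul_left hh)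
  have hpow : ∀ x : GL (Fin n) F, x ^ (orderOf g * orderOf h) = 1 →
      Matrix.toLin' (x : Matrix (Fin n) (Fin n) F) ^ (orderOf g * orderOf h) = 1 := by
    intro x hx
    rw [← Matrix.toLin'_pow, ← Units.val_pow_eq_pow_val, hx, Units.val_one, Matrix.toLin'_one]
    rfl
  obtain ⟨e, he⟩ := exists_conj_of_charpoly hN (Matrix.toLin' (g : Matrix (Fin n) (Fin n) F))
    (Matrix.toLin' (h : Matrix (Fin n) (Fin n) F)) rfl
    (hpow g (by rw [pow_mul, pow_orderOf_eq_one, one_pow]))
    (hpow h (by rw [mul_comm, pow_mul, pow_orderOf_eq_one, one_pow]))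
    (by rw [Matrix.charpoly_toLin', Matrix.charpoly_toLin', hc])
  let c : GL (Fin n) F :=
    ⟨LinearMap.toMatrix' e.toLinearMap, LinearMap.toMatrix' e.symm.toLinearMap,
      by rw [← LinearMap.toMatrix'_comp]; simp, by rw [← LinearMap.toMatrix'_comp]; simp⟩
  refine isConj_iff.mpr ⟨c, Units.ext ?_⟩
  apply Matrix.toLin'.injective
  simp only [Units.val_mul, Matrix.toLin'_mul, c, Matrix.toLin'_toMatrix', Units.inv_mk]
  rw [← he, LinearEquiv.conj_apply]

/-- Some power has order prime to the characteristic and the same charpoly. -/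
theorem exists_pow_charpoly [Fintype F] {p : ℕ} [hp : Fact p.Prime] [CharP F p] {ι : Type*} [Fintype ι]
    [DecidableEq ι] (u : GL ι F) :
    ∃ m : ℕ, (orderOf (u ^ m)).Coprime p ∧ (u ^ m).val.charpoly = u.val.charpoly := by
  classical
  obtain ⟨k, -, hqa⟩ := FiniteField.card F p
  let K := orderOf u
  refine ⟨Fintype.card F ^ K, ?_, ?_⟩
  · rw [orderOf_pow, Nat.coprime_comm, hp.out.coprime_iff_not_dvd]
    intro hdvd
    set g := (orderOf u).gcd (Fintype.card F ^ K)
    have hg : g * p ∣ orderOf u :=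
      (Nat.mul_dvd_mul_left g hdvd).trans (Nat.mul_div_cancel' (Nat.gcd_dvd_left _ _)).dvd
    obtain ⟨j, -, hj⟩ := (Nat.dvd_prime_pow hp.out).mp
      (show g ∣ p ^ ((k : ℕ) * K) by rw [pow_mul, ← hqa]; exact Nat.gcd_dvd_right _ _)
    rw [hj, ← pow_succ] at hg
    have h1 : p ^ (j + 1) ∣ Fintype.card F ^ K := by
      rw [hqa, ← pow_mul]
      refine pow_dvd_pow p ?_
      have h2 := Nat.le_of_dvd (orderOf_pos u) hg
      have h3 : j + 1 < p ^ (j + 1) := Nat.lt_pow_self hp.out.one_lt
      have h4 : K ≤ (k : ℕ) * K := Nat.le_mul_of_pos_left _ k.pos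
      omega
    have h5 := Nat.dvd_gcd hg h1
    change p ^ (j + 1) ∣ g at h5
    rw [hj] at h5
    have := (Nat.pow_dvd_pow_iff_le_right hp.out.one_lt).mp h5
    omega
  · have key : ∀ k : ℕ, (u ^ (Fintype.card F ^ k) : GL ι F).val.charpoly = u.val.charpoly := by
      intro k
      induction k with
      | zero => simp
      | succ k ih =>
        rw [pow_succ, pow_mul, Units.val_pow_eq_pow_val, FiniteField.Matrix.charpoly_pow_card, ih]
    exact key K

/-- Every monic polynomial with non-zero constant term is the charpoly of a p'-element. -/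
theorem exists_of_charpoly [Fintype F] {p : ℕ} [hp : Fact p.Prime] [CharP F p] {f : F[X]} (hf : f.Monic)
    (hdeg : f.natDegree = n) (h0 : f.coeff 0 ≠ 0) :
    ∃ g : GL (Fin n) F, (orderOf g).Coprime p ∧ (g : Matrix (Fin n) (Fin n) F).charpoly = f := by
  classical
  subst hdeg
  let pb := AdjoinRoot.powerBasis hf.ne_zero
  let C : Matrix (Fin f.natDegree) (Fin f.natDegree) F := Algebra.leftMulMatrix pb.basis pb.gen
  have hC : C.charpoly = f := by
    show (Algebra.leftMulMatrix pb.basis pb.gen).charpoly = f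
    rw [charpoly_leftMulMatrix, AdjoinRoot.minpoly_powerBasis_gen_of_monic hf]
  have hu : IsUnit C.det := by
    rw [isUnit_iff_ne_zero, Matrix.det_eq_sign_charpoly_coeff, hC]
    exact mul_ne_zero (pow_ne_zero _ (by norm_num)) h0
  let u : GL (Fin f.natDegree) F := Matrix.GeneralLinearGroup.mk'' C hu
  obtain ⟨m, hm, hmc⟩ := exists_pow_charpoly (p := p) u
  exact ⟨u ^ m, hm, hmc.trans hC⟩

end Matrix

end Cfsg.Agent.Lib.GLFlags.SemisimpleClasses
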