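import Mathlib
import Cfsg.Prelude.Def_LinearParabolics
set_option linter.unusedSectionVars false

/-!
Block labels of compositions and orders of standard parabolic subgroups of GL_n.

* `lab μ hμ : Fin n → Fin n` : the block label, `card_fiber_lab : #(fiber k) = μ k`.
* `mem_parabolicGL_iff`, `mem_youngSubgroup_iff`, `upperTriangularGL_le`.
* `card_parabolicGL`, `card_gl`, `card_quot_mul` (the q-multinomial count).
-/

namespace Cfsg.Agent.Lib.GLFlags

open scoped MatrixGroups
open Finset

section Label

variable {n : ℕ} (μ : Fin n → ℕ)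

/-- Sum of the parts with index `< k`. -/
def part (k : ℕ) : ℕ := ∑ j ∈ univ.filter (fun j : Fin n => j.val < k), μ j

theorem part_mono {k l : ℕ} (h : k ≤ l) : part μ k ≤ part μ l :=
  Finset.sum_le_sum_of_subset (fun j => by simp only [mem_filter, mem_univ, true_and]; omega)

theorem part_of_le {k : ℕ} (h : n ≤ k) : part μ k = ∑ i, μ i := by
  rw [part, Finset.filter_true_of_mem]
  intro j _; exact lt_of_lt_of_le j.isLt h

theorem part_succ (k : Fin n) : part μ (k.val + 1) = part μ k.val + μ k := by
  have : univ.filter (fun j : Fin n => j.val < k.val + 1) =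
      insert k (univ.filter (fun j : Fin n => j.val < k.val)) := by
    ext j; simp only [mem_filter, mem_univ, true_and, mem_insert]; rw [Fin.ext_iff]; omega
  rw [part, this, Finset.sum_insert (by simp), part, add_comm]

theorem part_le_sum (k : ℕ) : part μ k ≤ ∑ i, μ i :=
  Finset.sum_le_sum_of_subset (subset_univ _)

theorem sum_le_eq (j : Fin n) :
    (∑ k ∈ univ.filter (fun k : Fin n => k ≤ j), μ k) = part μ (j.val + 1) := by
  apply Finset.sum_congr _ (fun _ _ => rfl)
  ext k; simp only [mem_filter, mem_univ, true_and, Fin.le_def]; omega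

theorem compLabel_lt_iff {k : ℕ} (hk : k ≤ n) (i : Fin n) :
    Cfsg.compLabel μ i < k ↔ i.val < part μ k := by
  rw [Cfsg.compLabel]
  constructor
  · intro h
    by_contra hi
    push Not at hi
    have hsub : univ.filter (fun j : Fin n => j.val < k) ⊆
        univ.filter (fun j : Fin n => (∑ l ∈ univ.filter (fun l : Fin n => l ≤ j), μ l) ≤ i.val) := by
      intro j hj
      simp only [mem_filter, mem_univ, true_and] at hj ⊢
      rw [sum_le_eq]
      exact le_trans (part_mono μ (by omega)) hi
    have := Finset.card_le_card hsub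
    rw [Fin.card_filter_val_lt] at this
    omega
  · intro hi
    cases k with
    | zero => simp [part] at hi
    | succ k =>
      have hsub : univ.filter (fun j : Fin n => (∑ l ∈ univ.filter (fun l : Fin n => l ≤ j), μ l) ≤ i.val)
          ⊆ univ.filter (fun j : Fin n => j.val < k) := by
        intro j hj
        simp only [mem_filter, mem_univ, true_and] at hj ⊢
        rw [sum_le_eq] at hj
        by_contra hjk
        push Not at hjk
        have := part_mono μ (show k + 1 ≤ j.val + 1 by omega)
        omega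
      have := Finset.card_le_card hsub
      rw [Fin.card_filter_val_lt] at this
      omega

variable (hμ : ∑ i, μ i = n)
include hμ

theorem compLabel_lt (i : Fin n) : Cfsg.compLabel μ i < n := by
  rw [compLabel_lt_iff μ le_rfl, part_of_le μ le_rfl, hμ]; exact i.isLt

/-- The block label as a map to `Fin n`. -/
def lab (i : Fin n) : Fin n := ⟨Cfsg.compLabel μ i, compLabel_lt μ hμ i⟩

theorem card_fiber_lab (k : Fin n) :
    (univ.filter (fun i : Fin n => lab μ hμ i = k)).card = μ k := by
  have h : ∀ l ≤ n, (univ.filter (fun i : Fin n => Cfsg.compLabel μ i < l)).card = part μ l := by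
    intro l hl
    have he : univ.filter (fun i : Fin n => Cfsg.compLabel μ i < l) =
        univ.filter (fun i : Fin n => i.val < part μ l) := by
      ext i; simp [compLabel_lt_iff μ hl]
    rw [he, Fin.card_filter_val_lt]
    have := part_le_sum μ l
    omega
  have h1 := h k.val (by omega)
  have h2 := h (k.val + 1) (by omega)
  rw [part_succ] at h2
  have he : univ.filter (fun i : Fin n => Cfsg.compLabel μ i < k.val + 1) =
      univ.filter (fun i : Fin n => Cfsg.compLabel μ i < k.val) ∪
        univ.filter (fun i : Fin n => lab μ hμ i = k) := by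
    ext i; simp only [mem_filter, mem_univ, true_and, mem_union, lab, Fin.ext_iff]; omega
  rw [he, Finset.card_union_of_disjoint] at h2
  · omega
  · rw [Finset.disjoint_filter]; intro i _; simp only [lab, Fin.ext_iff]; omega

theorem lab_monotone : Monotone (lab μ hμ) := by
  intro i j hij
  change Cfsg.compLabel μ i ≤ Cfsg.compLabel μ j
  have hj := compLabel_lt μ hμ j
  have : Cfsg.compLabel μ i < Cfsg.compLabel μ j + 1 := by
    rw [compLabel_lt_iff μ hj]
    have h := (compLabel_lt_iff μ hj j).mp (Nat.lt_succ_self _)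
    exact lt_of_le_of_lt hij h
  omega

variable {F : Type*} [Field F]

theorem mem_parabolicGL_iff (g : GL (Fin n) F) :
    g ∈ Cfsg.parabolicGL n F μ ↔ (g : Matrix (Fin n) (Fin n) F).BlockTriangular (lab μ hμ) :=
  Iff.rfl

theorem mem_youngSubgroup_iff (σ : Equiv.Perm (Fin n)) :
    σ ∈ Cfsg.youngSubgroup μ ↔ ∀ i, lab μ hμ (σ i) = lab μ hμ i := by
  change (∀ i, Cfsg.compLabel μ (σ i) = Cfsg.compLabel μ i) ↔ _
  simp [lab, Fin.ext_iff]

theorem upperTriangularGL_le : Cfsg.upperTriangularGL n F ≤ Cfsg.parabolicGL n F μ := by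
  intro g hg
  rw [mem_parabolicGL_iff μ hμ]
  intro i j hij
  exact hg (lt_of_not_ge fun h => absurd (lab_monotone μ hμ h) (not_le_of_gt hij))

end Label

section Count

/-- `1 + q + ⋯ + q^j`, multiplied over `j < r`. -/
def qFact (q r : ℕ) : ℕ := ∏ j ∈ range r, ∑ l ∈ range (j + 1), q ^ l

theorem two_mul_sum_range (r : ℕ) : 2 * (∑ i ∈ range r, i) + r = r * r := by
  induction r with
  | zero => simp
  | succ r ih => rw [Finset.sum_range_succ]; ring_nf; ring_nf at ih; omega

theorem qFact_pos {q : ℕ} (hq : 0 < q) (r : ℕ) : 0 < qFact q r :=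
  Finset.prod_pos fun j _ => Finset.sum_pos (fun l _ => pow_pos hq l) (by simp)

theorem prod_sub_pow {q : ℕ} (hq : 1 ≤ q) (r : ℕ) :
    ∏ i ∈ range r, (q ^ r - q ^ i) =
      q ^ (∑ i ∈ range r, i) * (q - 1) ^ r * qFact q r := by
  have h : ∀ i ∈ range r, q ^ r - q ^ i = q ^ i * ((q - 1) * ∑ l ∈ range (r - i), q ^ l) := by
    intro i hi
    have hi := Finset.mem_range.mp hi
    obtain ⟨d, rfl⟩ : ∃ d, r = i + d := ⟨r - i, by omega⟩
    obtain ⟨p, rfl⟩ : ∃ p, q = p + 1 := ⟨q - 1, by omega⟩
    have hgeom := geom_sum_mul_add p d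
    rw [Nat.add_sub_cancel_left, Nat.add_sub_cancel, pow_add, ← hgeom, Nat.mul_add, mul_one,
      Nat.add_sub_cancel, mul_comm p]
  rw [Finset.prod_congr rfl h, Finset.prod_mul_distrib, Finset.prod_mul_distrib,
    Finset.prod_pow_eq_pow_sum, Finset.prod_const, Finset.card_range, qFact,
    ← Finset.prod_range_reflect (fun j => ∑ l ∈ range (j + 1), q ^ l) r, mul_assoc]
  congr 2
  refine Finset.prod_congr rfl fun i hi => ?_
  have hi := Finset.mem_range.mp hi
  congr 2
  omega

variable {F : Type*} [Field F] [Fintype F]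

theorem card_gl (r : ℕ) : Nat.card (GL (Fin r) F) =
    Fintype.card F ^ (∑ i ∈ range r, i) * (Fintype.card F - 1) ^ r * qFact (Fintype.card F) r := by
  rw [Matrix.card_GL_field, ← prod_sub_pow Fintype.card_pos r]
  exact Fin.prod_univ_eq_prod_range (fun i => Fintype.card F ^ r - Fintype.card F ^ i) r

theorem card_gl' (ι : Type*) [Fintype ι] [DecidableEq ι] :
    Nat.card (GL ι F) = Fintype.card F ^ (∑ i ∈ range (Fintype.card ι), i) *
      (Fintype.card F - 1) ^ Fintype.card ι * qFact (Fintype.card F) (Fintype.card ι) := by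
  rw [← card_gl (Fintype.card ι)]
  exact Nat.card_congr
    (Units.mapEquiv (Matrix.reindexAlgEquiv F F (Fintype.equivFin ι)).toMulEquiv).toEquiv

variable {ι α : Type*} [Fintype ι] [DecidableEq ι] [LinearOrder α] [Fintype α]

theorem det_ne_zero_iff_blocks {b : ι → α} {M : Matrix ι ι F} (hM : M.BlockTriangular b) :
    M.det ≠ 0 ↔ ∀ k, (M.toSquareBlock b k).det ≠ 0 := by
  rw [hM.det_fintype, Finset.prod_ne_zero_iff]
  simp

/-- The matrix with prescribed diagonal blocks and prescribed entries above them. -/
noncomputable def assemble (b : ι → α) (A : ∀ k, GL {i // b i = k} F)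
    (f : {p : ι × ι // b p.1 < b p.2} → F) : Matrix ι ι F :=
  Matrix.of fun i j =>
    if h : b j = b i then
      (A (b i) : Matrix {a // b a = b i} {a // b a = b i} F) ⟨i, rfl⟩ ⟨j, h⟩
    else if h' : b i < b j then f ⟨(i, j), h'⟩ else 0

theorem assemble_blockTriangular (b : ι → α) (A : ∀ k, GL {i // b i = k} F)
    (f : {p : ι × ι // b p.1 < b p.2} → F) : (assemble b A f).BlockTriangular b := by
  intro i j hij
  simp [assemble, hij.ne, not_lt_of_gt hij]

theorem assemble_toSquareBlock (b : ι → α) (A : ∀ k, GL {i // b i = k} F)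
    (f : {p : ι × ι // b p.1 < b p.2} → F) (k : α) :
    (assemble b A f).toSquareBlock b k = (A k : Matrix _ _ F) := by
  ext ⟨i, hi⟩ ⟨j, hj⟩
  subst hi
  simp [assemble, Matrix.toSquareBlock_def, hj]

theorem card_blockTriangular_units (b : ι → α) :
    Nat.card {g : GL ι F // (g : Matrix ι ι F).BlockTriangular b} =
      (∏ k, Nat.card (GL {i // b i = k} F)) *
        Fintype.card F ^ (univ.filter (fun p : ι × ι => b p.1 < b p.2)).card := by
  classical
  let e : {g : GL ι F // (g : Matrix ι ι F).BlockTriangular b} ≃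
      (∀ k, GL {i // b i = k} F) × ({p : ι × ι // b p.1 < b p.2} → F) :=
    { toFun := fun g =>
        (fun k => Matrix.GeneralLinearGroup.mkOfDetNeZero ((g.1 : Matrix ι ι F).toSquareBlock b k)
            ((det_ne_zero_iff_blocks g.2).mp
              (Matrix.GeneralLinearGroup.det g.1).ne_zero k),
          fun p => (g.1 : Matrix ι ι F) p.1.1 p.1.2)
      invFun := fun x =>
        ⟨Matrix.GeneralLinearGroup.mkOfDetNeZero (assemble b x.1 x.2)
          ((det_ne_zero_iff_blocks (assemble_blockTriangular b x.1 x.2)).mpr fun k => by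
            rw [assemble_toSquareBlock]; exact (Matrix.GeneralLinearGroup.det (x.1 k)).ne_zero),
          assemble_blockTriangular b x.1 x.2⟩
      left_inv := fun g => by
        apply Subtype.ext; apply Units.ext; ext i j
        by_cases h : b j = b i
        · simp [assemble, h, Matrix.toSquareBlock_def, Matrix.GeneralLinearGroup.mkOfDetNeZero,
            Matrix.GeneralLinearGroup.mk'']
        · by_cases h' : b i < b j
          · simp [assemble, h, h', Matrix.GeneralLinearGroup.mkOfDetNeZero,
              Matrix.GeneralLinearGroup.mk'']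
          · simp [assemble, h, h', Matrix.GeneralLinearGroup.mkOfDetNeZero,
              Matrix.GeneralLinearGroup.mk'',
              g.2 (lt_of_le_of_ne (not_lt.mp h') h)]
      right_inv := fun x => by
        refine Prod.ext (funext fun k => Units.ext ?_) (funext fun p => ?_)
        · exact assemble_toSquareBlock b x.1 x.2 k
        · simp [assemble, Matrix.GeneralLinearGroup.mkOfDetNeZero,
            p.2, p.2.ne'] }
  rw [Nat.card_congr e, Nat.card_prod, Nat.card_pi, Nat.card_fun, Nat.card_eq_fintype_card,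
    Nat.card_eq_fintype_card, Fintype.card_subtype]

theorem pairs_lt_identity (b : ι → α) :
    2 * (univ.filter (fun p : ι × ι => b p.1 < b p.2)).card
      + ∑ k, (univ.filter (fun i => b i = k)).card ^ 2 = Fintype.card ι ^ 2 := by
  classical
  have h1 : (univ.filter (fun p : ι × ι => b p.2 < b p.1)).card =
      (univ.filter (fun p : ι × ι => b p.1 < b p.2)).card := by
    refine Finset.card_equiv (Equiv.prodComm ι ι) ?_
    intro p; simp
  have h2 : (univ.filter (fun p : ι × ι => b p.1 = b p.2)).card =
      ∑ k, (univ.filter (fun i => b i = k)).card ^ 2 := by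
    rw [Finset.card_eq_sum_card_fiberwise (f := fun p : ι × ι => b p.1) (t := univ)
      (fun x _ => mem_univ _)]
    refine Finset.sum_congr rfl fun k _ => ?_
    rw [sq, ← Finset.card_product]
    congr 1
    ext p
    simp only [mem_filter, mem_univ, true_and, mem_product]
    constructor
    · rintro ⟨h, h'⟩; exact ⟨h', h ▸ h'⟩
    · rintro ⟨h, h'⟩; exact ⟨h.trans h'.symm, h⟩
  have h3 : (univ : Finset (ι × ι)).card = Fintype.card ι ^ 2 := by
    rw [Finset.card_univ, Fintype.card_prod, sq]
  rw [← h3, ← h2]
  have h4 := (Finset.card_filter_add_card_filter_not (s := (univ : Finset (ι × ι)))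
    (fun p : ι × ι => b p.1 = b p.2))
  have h5 : univ.filter (fun p : ι × ι => ¬ b p.1 = b p.2) =
      univ.filter (fun p : ι × ι => b p.1 < b p.2) ∪ univ.filter (fun p : ι × ι => b p.2 < b p.1) := by
    ext p; simp only [mem_filter, mem_univ, true_and, mem_union]; exact lt_or_lt_iff_ne.symm
  rw [h5, Finset.card_union_of_disjoint (by
    rw [Finset.disjoint_filter]; intro p _ h; exact not_lt_of_gt h), h1] at h4
  omega

theorem card_parabolicGL {n : ℕ} (μ : Fin n → ℕ) (hμ : ∑ i, μ i = n) :
    Nat.card (Cfsg.parabolicGL n F μ) =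
      Fintype.card F ^ (∑ i ∈ range n, i) * (Fintype.card F - 1) ^ n *
        ∏ k, qFact (Fintype.card F) (μ k) := by
  classical
  have e : Nat.card (Cfsg.parabolicGL n F μ) =
      Nat.card {g : GL (Fin n) F // (g : Matrix (Fin n) (Fin n) F).BlockTriangular (lab μ hμ)} :=
    Nat.card_congr (Equiv.subtypeEquivRight fun g => mem_parabolicGL_iff μ hμ g)
  rw [e, card_blockTriangular_units]
  have hk : ∀ k : Fin n, Nat.card (GL {i // lab μ hμ i = k} F) =
      Fintype.card F ^ (∑ i ∈ range (μ k), i) * (Fintype.card F - 1) ^ (μ k) *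
        qFact (Fintype.card F) (μ k) := by
    intro k
    rw [card_gl', Fintype.card_subtype, card_fiber_lab]
  rw [Finset.prod_congr rfl (fun k _ => hk k), Finset.prod_mul_distrib, Finset.prod_mul_distrib,
    Finset.prod_pow_eq_pow_sum, Finset.prod_pow_eq_pow_sum, hμ]
  have hid := pairs_lt_identity (lab μ hμ)
  simp only [card_fiber_lab, Fintype.card_fin] at hid
  have hsum : 2 * (∑ k, ∑ i ∈ range (μ k), i) + n = ∑ k, μ k ^ 2 := by
    calc 2 * (∑ k, ∑ i ∈ range (μ k), i) + n
        = ∑ k, (2 * (∑ i ∈ range (μ k), i) + μ k) := by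
          rw [Finset.sum_add_distrib, ← Finset.mul_sum, hμ]
      _ = _ := Finset.sum_congr rfl fun k _ => by rw [two_mul_sum_range, sq]
  have hn := two_mul_sum_range n
  rw [← sq] at hn
  have hexp : (∑ k, ∑ i ∈ range (μ k), i) +
      (univ.filter (fun p : Fin n × Fin n => lab μ hμ p.1 < lab μ hμ p.2)).card =
        ∑ i ∈ range n, i := by omega
  rw [← hexp, pow_add]
  ring

theorem card_quot_mul {n : ℕ} (μ : Fin n → ℕ) (hμ : ∑ i, μ i = n) :
    Nat.card (GL (Fin n) F ⧸ Cfsg.parabolicGL n F μ) * ∏ k, qFact (Fintype.card F) (μ k) =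
      qFact (Fintype.card F) n := by
  have h := Subgroup.card_eq_card_quotient_mul_card_subgroup (Cfsg.parabolicGL n F μ)
  rw [card_gl, card_parabolicGL μ hμ] at h
  have hq : 1 < Fintype.card F := Fintype.one_lt_card
  refine Nat.eq_of_mul_eq_mul_left
    (show 0 < Fintype.card F ^ (∑ i ∈ range n, i) * (Fintype.card F - 1) ^ n from
      mul_pos (pow_pos (by omega) _) (pow_pos (by omega) _)) ?_
  rw [h]
  ring

end Count

end Cfsg.Agent.Lib.GLFlags
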