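import Mathlib
import Cfsg.Prelude.Def_LinearParabolics

/-!
Bruhat decomposition of GL_n for upper triangular matrices, and the bijection
`S_ν \ S_n / S_μ ≅ P_ν \ GL_n / P_μ`; orbit counting for permutation characters.
-/

namespace Cfsg.Agent.Lib.GLFlags

open scoped MatrixGroups Matrix
open Finset

section Perm

variable {n : ℕ} {F : Type*} [Field F]

/-- The permutation matrix sending the `j`-th basis vector to the `σ j`-th one. -/
def pm (σ : Equiv.Perm (Fin n)) : Matrix (Fin n) (Fin n) F :=
  Matrix.of fun i j => if i = σ j then 1 else 0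

theorem pm_one : (pm (1 : Equiv.Perm (Fin n)) : Matrix (Fin n) (Fin n) F) = 1 := by
  ext i j; simp [pm, Matrix.one_apply]; congr

theorem pm_mul (σ τ : Equiv.Perm (Fin n)) :
    (pm (σ * τ) : Matrix (Fin n) (Fin n) F) = pm σ * pm τ := by
  ext i j; simp [pm, Matrix.mul_apply]; congr

theorem pm_mulVec (σ : Equiv.Perm (Fin n)) (v : Fin n → F) (j : Fin n) :
    ((pm σ : Matrix (Fin n) (Fin n) F) *ᵥ v) (σ j) = v j := by
  simp [pm, Matrix.mulVec, dotProduct]

/-- Permutation matrices as elements of GL_n. -/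
def pmGL : Equiv.Perm (Fin n) →* GL (Fin n) F :=
  MonoidHom.toHomUnits { toFun := pm, map_one' := pm_one, map_mul' := pm_mul }

@[simp] theorem coe_pmGL (σ : Equiv.Perm (Fin n)) :
    ((pmGL σ : GL (Fin n) F) : Matrix (Fin n) (Fin n) F) = pm σ := rfl

end Perm

section Bruhat

variable {F : Type*} [Field F]

/-- Extend a matrix by a `1` at position `(i, i)`. -/
def expand {n : ℕ} (i : Fin (n + 1)) (U : Matrix (Fin n) (Fin n) F) :
    Matrix (Fin (n + 1)) (Fin (n + 1)) F :=
  Matrix.of fun r s => i.succAboveCases (if s = i then 1 else 0)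
    (fun r' => i.succAboveCases (0 : F) (fun s' => U r' s') s) r

theorem expand_self {n : ℕ} (i : Fin (n + 1)) (U : Matrix (Fin n) (Fin n) F) (s : Fin (n + 1)) :
    expand i U i s = if s = i then 1 else 0 := by simp [expand]

theorem expand_col {n : ℕ} (i : Fin (n + 1)) (U : Matrix (Fin n) (Fin n) F) (r : Fin n) :
    expand i U (i.succAbove r) i = 0 := by simp [expand]

theorem expand_above {n : ℕ} (i : Fin (n + 1)) (U : Matrix (Fin n) (Fin n) F) (r s : Fin n) :
    expand i U (i.succAbove r) (i.succAbove s) = U r s := by simp [expand]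

theorem expand_upper {n : ℕ} (i : Fin (n + 1)) {U : Matrix (Fin n) (Fin n) F}
    (hU : U.BlockTriangular id) : (expand i U).BlockTriangular id := by
  intro r s hrs
  simp only [id] at hrs
  rcases Fin.eq_self_or_eq_succAbove i r with rfl | ⟨r', rfl⟩
  · rw [expand_self, if_neg hrs.ne]
  · rcases Fin.eq_self_or_eq_succAbove i s with hs | ⟨s', rfl⟩
    · subst hs; rw [expand_col]
    · rw [expand_above]
      exact hU ((Fin.succAbove_lt_succAbove_iff).mp hrs)

theorem exists_upper_mul_perm_mul_upper :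
    ∀ (n : ℕ) (M : Matrix (Fin n) (Fin n) F), M.det ≠ 0 →
      ∃ (U V : Matrix (Fin n) (Fin n) F) (σ : Equiv.Perm (Fin n)),
        U.BlockTriangular id ∧ V.BlockTriangular id ∧ U * M * V = pm σ := by
  intro n
  induction n with
  | zero => exact fun M _ => ⟨1, 1, 1, Matrix.blockTriangular_one, Matrix.blockTriangular_one,
      by ext i; exact i.elim0⟩
  | succ n ih =>
    intro M hM
    classical
    have hne : (univ.filter fun r => M r 0 ≠ 0).Nonempty := by
      by_contra h
      refine hM (Matrix.det_eq_zero_of_column_eq_zero 0 fun r => ?_)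
      by_contra hr
      exact h ⟨r, by simp [hr]⟩
    set i := (univ.filter fun r => M r 0 ≠ 0).max' hne with hi_def
    have hi : M i 0 ≠ 0 := (Finset.mem_filter.mp (Finset.max'_mem _ hne)).2
    have hmax : ∀ r, i < r → M r 0 = 0 := by
      intro r hr
      by_contra h
      exact absurd (Finset.le_max' _ r (by simp [h])) (not_le_of_gt hr)
    let U1 : Matrix (Fin (n + 1)) (Fin (n + 1)) F := Matrix.of fun r s =>
      (if r = s then (if r = i then (M i 0)⁻¹ else 1) else 0) +
        (if r ≠ i ∧ s = i then -(M r 0) * (M i 0)⁻¹ else 0)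
    have hU1 : U1.BlockTriangular id := by
      intro r s hrs
      simp only [id] at hrs
      by_cases hs : s = i
      · subst hs; simp [U1, hrs.ne', hmax r hrs]
      · simp [U1, hrs.ne', hs]
    have hU1det : U1.det ≠ 0 := by
      rw [Matrix.det_of_upperTriangular hU1, Finset.prod_ne_zero_iff]
      intro r _
      by_cases hr : r = i <;> simp [U1, hr, hi]
    have hcol : ∀ r, (U1 * M) r 0 = if r = i then 1 else 0 := by
      intro r
      by_cases hr : r = i
      · subst hr; simp [U1, Matrix.mul_apply, hi]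
      · simp [U1, Matrix.mul_apply, hr, add_mul, Finset.sum_add_distrib]
        field_simp
        ring
    let V1 : Matrix (Fin (n + 1)) (Fin (n + 1)) F := Matrix.of fun r s =>
      (if r = s then 1 else 0) + (if r = 0 ∧ s ≠ 0 then -((U1 * M) i s) else 0)
    have hV1 : V1.BlockTriangular id := by
      intro r s hrs
      simp only [id] at hrs
      simp [V1, hrs.ne', (lt_of_le_of_lt (Fin.zero_le s) hrs).ne']
    have hV1det : V1.det ≠ 0 := by
      rw [Matrix.det_of_upperTriangular hV1, Finset.prod_ne_zero_iff]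
      intro r _
      by_cases hr : r = 0 <;> simp [V1, hr]
    have hM2eq : ∀ r s, (U1 * M * V1) r s =
        (U1 * M) r s - (if s = 0 then 0 else (U1 * M) r 0 * (U1 * M) i s) := by
      intro r s
      rw [Matrix.mul_apply]
      generalize hX : U1 * M = X
      by_cases hs : s = 0
      · simp [V1, hs, mul_add, Finset.sum_add_distrib]
      · simp [V1, hs, hX, mul_add, Finset.sum_add_distrib, sub_eq_add_neg]
    have hc0 : ∀ r, (U1 * M * V1) r 0 = if r = i then 1 else 0 := by
      intro r; rw [hM2eq, if_pos rfl, hcol, sub_zero]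
    have hri : ∀ s, (U1 * M * V1) i s = if s = 0 then 1 else 0 := by
      intro s
      by_cases hs : s = 0
      · subst hs; simp [hc0]
      · rw [hM2eq, if_neg hs, hcol, if_pos rfl, if_neg hs, one_mul, sub_self]
    generalize hM2 : U1 * M * V1 = M2 at hc0 hri
    have hdet2 : M2.det ≠ 0 := by
      rw [← hM2, Matrix.det_mul, Matrix.det_mul]
      exact mul_ne_zero (mul_ne_zero hU1det hM) hV1det
    have hN : (M2.submatrix i.succAbove Fin.succ).det ≠ 0 := by
      intro h
      apply hdet2
      rw [Matrix.det_succ_column_zero, Finset.sum_eq_single i]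
      · rw [h, mul_zero]
      · intro r _ hr; rw [hc0, if_neg hr]; ring
      · simp
    obtain ⟨U', V', σ', hU', hV', hσ'⟩ := ih _ hN
    let σ : Equiv.Perm (Fin (n + 1)) :=
      (finSuccEquiv' 0).trans ((Equiv.optionCongr σ').trans (finSuccEquiv' i).symm)
    have hσ0 : σ 0 = i := by simp [σ]
    have hσs : ∀ j : Fin n, σ j.succ = i.succAbove (σ' j) := by
      intro j
      simp only [σ, Equiv.trans_apply]
      rw [← Fin.succAbove_zero_apply, finSuccEquiv'_succAbove]
      simp
    refine ⟨expand i U' * U1, V1 * expand 0 V', σ, (expand_upper i hU').mul hU1,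
      hV1.mul (expand_upper 0 hV'), ?_⟩
    have hassoc : expand i U' * U1 * M * (V1 * expand 0 V') = expand i U' * M2 * expand 0 V' := by
      rw [← hM2]; simp only [Matrix.mul_assoc]
    rw [hassoc]
    have hUMi : ∀ s, (expand i U' * M2) i s = if s = 0 then 1 else 0 := by
      intro s; simp [Matrix.mul_apply, expand_self, hri]
    have hUMa : ∀ r s, (expand i U' * M2) (i.succAbove r) s =
        ∑ x, U' r x * M2 (i.succAbove x) s := by
      intro r s
      rw [Matrix.mul_apply, Fin.sum_univ_succAbove _ i]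
      simp [expand_col, expand_above]
    have he00 : expand (0 : Fin (n + 1)) V' 0 0 = 1 := by simp [expand_self]
    have he0s : ∀ t : Fin n, expand (0 : Fin (n + 1)) V' 0 t.succ = 0 := by
      intro t; rw [expand_self, if_neg (Fin.succ_ne_zero t)]
    have hes0 : ∀ t : Fin n, expand (0 : Fin (n + 1)) V' t.succ 0 = 0 := by
      intro t; rw [← Fin.succAbove_zero_apply]; exact expand_col 0 V' t
    have hess : ∀ t u : Fin n, expand (0 : Fin (n + 1)) V' t.succ u.succ = V' t u := by
      intro t u
      have := expand_above 0 V' t u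
      simpa [Fin.succAbove_zero] using this
    ext r s
    rw [Matrix.mul_apply, Fin.sum_univ_succ]
    rcases Fin.eq_self_or_eq_succAbove i r with rfl | ⟨r', rfl⟩
    · rcases Fin.eq_zero_or_eq_succ s with rfl | ⟨s', rfl⟩
      · simp [hUMi, pm, he00, hσ0, Fin.succ_ne_zero]
      · simp [hUMi, pm, he0s, hσs, Fin.succ_ne_zero, Fin.ne_succAbove]
    · rcases Fin.eq_zero_or_eq_succ s with rfl | ⟨s', rfl⟩
      · simp [hes0, hUMa, hc0, Fin.succAbove_ne, pm, hσ0]
      · simp only [he0s, mul_zero, zero_add, hess]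
        have h1 : (U' * M2.submatrix i.succAbove Fin.succ * V') r' s' = pm σ' r' s' := by rw [hσ']
        rw [Matrix.mul_apply] at h1
        simp only [Matrix.mul_apply (M := U'), Matrix.submatrix_apply] at h1
        simp only [hUMa]
        rw [h1]
        simp [pm, hσs]

theorem exists_gl_decomp {n : ℕ} (g : GL (Fin n) F) :
    ∃ (a b : GL (Fin n) F) (σ : Equiv.Perm (Fin n)),
      a ∈ Cfsg.upperTriangularGL n F ∧ b ∈ Cfsg.upperTriangularGL n F ∧ a * g * b = pmGL σ := by
  obtain ⟨U, V, σ, hU, hV, h⟩ := exists_upper_mul_perm_mul_upper n (g : Matrix (Fin n) (Fin n) F)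
    (Matrix.GeneralLinearGroup.det g).ne_zero
  have hd : U.det * (g : Matrix (Fin n) (Fin n) F).det * V.det ≠ 0 := by
    rw [← Matrix.det_mul, ← Matrix.det_mul, h, ← coe_pmGL]
    exact (Matrix.GeneralLinearGroup.det (pmGL σ : GL (Fin n) F)).ne_zero
  exact ⟨Matrix.GeneralLinearGroup.mkOfDetNeZero U (left_ne_zero_of_mul (left_ne_zero_of_mul hd)),
    Matrix.GeneralLinearGroup.mkOfDetNeZero V (right_ne_zero_of_mul hd), σ, hU, hV, Units.ext h⟩

end Bruhat

section Parabolic

variable {n : ℕ} {F : Type*} [Field F] (μ ν : Fin n → ℕ)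

theorem compLabel_monotone : Monotone (Cfsg.compLabel μ) := by
  intro i j hij
  apply Finset.card_le_card
  intro k
  simp only [mem_filter, mem_univ, true_and]
  intro h
  exact le_trans h hij

theorem upper_le : Cfsg.upperTriangularGL n F ≤ Cfsg.parabolicGL n F μ := fun _ hg i j hij =>
  hg (lt_of_not_ge fun h => absurd (compLabel_monotone μ h) (not_le_of_gt hij))

theorem pmGL_mem {σ : Equiv.Perm (Fin n)} (hσ : σ ∈ Cfsg.youngSubgroup μ) :
    (pmGL σ : GL (Fin n) F) ∈ Cfsg.parabolicGL n F μ := by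
  intro i j hij
  change (if i = σ j then (1 : F) else 0) = 0
  rw [if_neg]
  rintro rfl
  rw [hσ j] at hij
  exact lt_irrefl _ hij

theorem parabolic_mulVec_eq_zero {p : GL (Fin n) F} (hp : p ∈ Cfsg.parabolicGL n F μ) {k : ℕ}
    {v : Fin n → F} (hv : ∀ j, k ≤ Cfsg.compLabel μ j → v j = 0) {i : Fin n}
    (hi : k ≤ Cfsg.compLabel μ i) : ((p : Matrix (Fin n) (Fin n) F) *ᵥ v) i = 0 := by
  rw [Matrix.mulVec, dotProduct]
  refine Finset.sum_eq_zero fun j _ => ?_
  change (p : Matrix (Fin n) (Fin n) F) i j * v j = 0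
  by_cases hj : k ≤ Cfsg.compLabel μ j
  · rw [hv j hj, mul_zero]
  · rw [show (p : Matrix (Fin n) (Fin n) F) i j = 0 from hp (by omega), zero_mul]

/-- The subspace count separating the double cosets. -/
noncomputable def key (x : GL (Fin n) F) (k l : ℕ) : ℕ :=
  Nat.card {v : Fin n → F // (∀ j, l ≤ Cfsg.compLabel μ j → v j = 0) ∧
    ∀ i, k ≤ Cfsg.compLabel ν i → ((x : Matrix (Fin n) (Fin n) F) *ᵥ v) i = 0}

variable [Fintype F]

theorem key_le {a b x : GL (Fin n) F} (ha : a ∈ Cfsg.parabolicGL n F ν)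
    (hb : b ∈ Cfsg.parabolicGL n F μ) (k l : ℕ) : key μ ν x k l ≤ key μ ν (a * x * b) k l := by
  refine Nat.card_le_card_of_injective
    (fun v => ⟨((b⁻¹ : GL (Fin n) F) : Matrix (Fin n) (Fin n) F) *ᵥ v.1,
      fun j hj => parabolic_mulVec_eq_zero μ (inv_mem hb) v.2.1 hj, fun i hi => ?_⟩) ?_
  · rw [Matrix.mulVec_mulVec, ← Units.val_mul, mul_inv_cancel_right, Units.val_mul,
      ← Matrix.mulVec_mulVec]
    exact parabolic_mulVec_eq_zero ν ha v.2.2 hi
  · intro v w h
    have h' := congrArg (fun u => (b : Matrix (Fin n) (Fin n) F) *ᵥ u) (congrArg Subtype.val h)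
    simp only [Matrix.mulVec_mulVec, ← Units.val_mul, mul_inv_cancel, Units.val_one,
      Matrix.one_mulVec] at h'
    exact Subtype.ext h'

theorem key_mul {a b x : GL (Fin n) F} (ha : a ∈ Cfsg.parabolicGL n F ν)
    (hb : b ∈ Cfsg.parabolicGL n F μ) (k l : ℕ) : key μ ν (a * x * b) k l = key μ ν x k l := by
  refine le_antisymm ?_ (key_le μ ν ha hb k l)
  refine le_trans (key_le μ ν (inv_mem ha) (inv_mem hb) k l) (le_of_eq ?_)
  congr 1; group

theorem key_pmGL (σ : Equiv.Perm (Fin n)) (k l : ℕ) :
    key μ ν (pmGL σ : GL (Fin n) F) k l = Fintype.card F ^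
      (univ.filter fun j => Cfsg.compLabel μ j < l ∧ Cfsg.compLabel ν (σ j) < k).card := by
  classical
  let p : Fin n → Prop := fun j => Cfsg.compLabel μ j < l ∧ Cfsg.compLabel ν (σ j) < k
  let e : {v : Fin n → F // (∀ j, l ≤ Cfsg.compLabel μ j → v j = 0) ∧
      ∀ i, k ≤ Cfsg.compLabel ν i → ((pm σ : Matrix (Fin n) (Fin n) F) *ᵥ v) i = 0} ≃
      ({j // p j} → F) :=
    { toFun := fun v j => v.1 j.1
      invFun := fun w => ⟨fun j => if h : p j then w ⟨j, h⟩ else 0,
        fun j hj => dif_neg fun h => by have := h.1; omega, fun i hi => by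
          obtain ⟨j, rfl⟩ := σ.surjective i
          rw [pm_mulVec]
          exact dif_neg fun h => by have := h.2; omega⟩
      left_inv := fun v => by
        apply Subtype.ext; funext j
        by_cases h : p j
        · simp [h]
        · simp only [dif_neg h]
          rcases not_and_or.mp h with h | h
          · exact (v.2.1 j (not_lt.mp h)).symm
          · have := v.2.2 (σ j) (not_lt.mp h)
            rw [pm_mulVec] at this
            exact this.symm
      right_inv := fun w => by funext j; simp [j.2] }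
  rw [key, coe_pmGL, Nat.card_congr e, Nat.card_fun, Nat.card_eq_fintype_card,
    Nat.card_eq_fintype_card, Fintype.card_subtype]

theorem young_dcoset_of_counts (σ τ : Equiv.Perm (Fin n))
    (h : ∀ k l, (univ.filter fun j => Cfsg.compLabel μ j < l ∧ Cfsg.compLabel ν (σ j) < k).card =
      (univ.filter fun j => Cfsg.compLabel μ j < l ∧ Cfsg.compLabel ν (τ j) < k).card) :
    ∃ a ∈ Cfsg.youngSubgroup ν, ∃ b ∈ Cfsg.youngSubgroup μ, τ = a * σ * b := by
  classical
  have key4 : ∀ (ρ : Equiv.Perm (Fin n)) (k l : ℕ),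
      (univ.filter fun j => Cfsg.compLabel μ j = l ∧ Cfsg.compLabel ν (ρ j) = k).card +
        (univ.filter fun j => Cfsg.compLabel μ j < l ∧ Cfsg.compLabel ν (ρ j) < k + 1).card +
        (univ.filter fun j => Cfsg.compLabel μ j < l + 1 ∧ Cfsg.compLabel ν (ρ j) < k).card =
      (univ.filter fun j => Cfsg.compLabel μ j < l + 1 ∧ Cfsg.compLabel ν (ρ j) < k + 1).card +
        (univ.filter fun j => Cfsg.compLabel μ j < l ∧ Cfsg.compLabel ν (ρ j) < k).card := by
    intro ρ k l
    simp only [Finset.card_filter, ← Finset.sum_add_distrib]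
    refine Finset.sum_congr rfl fun j _ => ?_
    split_ifs <;> omega
  have hcount : ∀ k l,
      (univ.filter fun j => Cfsg.compLabel μ j = l ∧ Cfsg.compLabel ν (σ j) = k).card =
      (univ.filter fun j => Cfsg.compLabel μ j = l ∧ Cfsg.compLabel ν (τ j) = k).card := by
    intro k l
    have h1 := key4 σ k l
    have h2 := key4 τ k l
    rw [h k l, h k (l + 1), h (k + 1) l, h (k + 1) (l + 1)] at h1
    omega
  let f : Fin n → ℕ × ℕ := fun j => (Cfsg.compLabel μ j, Cfsg.compLabel ν (τ j))
  let g : Fin n → ℕ × ℕ := fun j => (Cfsg.compLabel μ j, Cfsg.compLabel ν (σ j))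
  have hfib : ∀ c : ℕ × ℕ, Nonempty ({j // f j = c} ≃ {j // g j = c}) := by
    intro c
    refine ⟨Fintype.equivOfCardEq ?_⟩
    rw [Fintype.card_subtype, Fintype.card_subtype]
    simp only [f, g, Prod.ext_iff]
    exact (hcount c.2 c.1).symm
  let b : Equiv.Perm (Fin n) := Equiv.ofFiberEquiv fun c => (hfib c).some
  have hb : ∀ j, g (b j) = f j := fun j => Equiv.ofFiberEquiv_map _ j
  refine ⟨τ * b⁻¹ * σ⁻¹, ?_, b, ?_, by group⟩
  · intro i
    obtain ⟨j, rfl⟩ := (σ * b).surjective i
    have := congrArg Prod.snd (hb j)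
    simpa [f, g] using this.symm
  · intro i
    exact congrArg Prod.fst (hb i)

/-- Double cosets of parabolic subgroups correspond to double cosets of Young subgroups. -/
theorem card_doubleCoset_parabolic :
    Nat.card (DoubleCoset.Quotient (Cfsg.parabolicGL n F ν : Set (GL (Fin n) F))
        (Cfsg.parabolicGL n F μ)) =
      Nat.card (DoubleCoset.Quotient (Cfsg.youngSubgroup ν : Set (Equiv.Perm (Fin n)))
        (Cfsg.youngSubgroup μ)) := by
  symm
  refine Nat.card_congr (Equiv.ofBijective (Quotient.map' (pmGL : _ → GL (Fin n) F) ?_) ⟨?_, ?_⟩)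
  · intro σ τ hστ
    obtain ⟨a, ha, b, hb, h⟩ := DoubleCoset.rel_iff.mp hστ
    exact DoubleCoset.rel_iff.mpr ⟨pmGL a, pmGL_mem ν ha, pmGL b, pmGL_mem μ hb,
      by rw [h, map_mul, map_mul]⟩
  · intro x y
    induction x using Quotient.inductionOn' with | _ σ => ?_
    induction y using Quotient.inductionOn' with | _ τ => ?_
    intro h
    simp only [Quotient.map'_mk''] at h
    obtain ⟨a, ha, b, hb, hab⟩ := DoubleCoset.rel_iff.mp (Quotient.eq''.mp h)
    refine Quotient.eq''.mpr (DoubleCoset.rel_iff.mpr ?_)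
    refine young_dcoset_of_counts μ ν σ τ fun k l => ?_
    have h1 : key μ ν (pmGL τ : GL (Fin n) F) k l = key μ ν (pmGL σ : GL (Fin n) F) k l := by
      rw [hab, key_mul μ ν ha hb]
    rw [key_pmGL, key_pmGL] at h1
    exact (Nat.pow_right_injective Fintype.one_lt_card h1).symm
  · intro y
    induction y using Quotient.inductionOn' with | _ g => ?_
    obtain ⟨a, b, σ, ha, hb, h⟩ := exists_gl_decomp g
    refine ⟨Quotient.mk'' σ, ?_⟩
    rw [Quotient.map'_mk'']
    exact Quotient.eq''.mpr (DoubleCoset.rel_iff.mpr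
      ⟨a⁻¹, inv_mem (upper_le ν ha), b⁻¹, inv_mem (upper_le μ hb), by rw [← h]; group⟩)

end Parabolic

section Orbits

variable {G : Type*} [Group G] [Fintype G] (H K : Subgroup G)

/-- Orbits on pairs of cosets are double cosets. -/
theorem card_orbits_prod :
    Nat.card (MulAction.orbitRel.Quotient G ((G ⧸ H) × (G ⧸ K))) =
      Nat.card (DoubleCoset.Quotient (H : Set G) K) := by
  symm
  refine Nat.card_congr (Equiv.ofBijective (Quotient.map'
    (fun x : G => (((1 : G) : G ⧸ H), (x : G ⧸ K))) ?_) ⟨?_, ?_⟩)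
  · intro x y hxy
    obtain ⟨a, ha, b, hb, h⟩ := DoubleCoset.rel_iff.mp hxy
    rw [MulAction.orbitRel_apply]
    refine ⟨a⁻¹, ?_⟩
    ext
    · simp only [Prod.smul_fst, MulAction.Quotient.smul_coe, smul_eq_mul, mul_one]
      exact QuotientGroup.eq.mpr (by simpa using ha)
    · simp only [Prod.smul_snd, MulAction.Quotient.smul_coe, smul_eq_mul]
      refine QuotientGroup.eq.mpr ?_
      have : (a⁻¹ * y)⁻¹ * x = b⁻¹ := by rw [h]; group
      rw [this]; exact inv_mem hb
  · intro x y
    induction x using Quotient.inductionOn' with | _ a => ?_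
    induction y using Quotient.inductionOn' with | _ b => ?_
    intro h
    simp only [Quotient.map'_mk''] at h
    obtain ⟨g, hg⟩ := Quotient.eq''.mp h
    obtain ⟨hg1, hg2⟩ := Prod.ext_iff.mp hg
    simp only [Prod.smul_fst, Prod.smul_snd, MulAction.Quotient.smul_coe, smul_eq_mul,
      mul_one] at hg1 hg2
    have h1 : g ∈ H := by simpa using QuotientGroup.eq.mp hg1
    have h2 := QuotientGroup.eq.mp hg2
    exact Quotient.eq''.mpr (DoubleCoset.rel_iff.mpr
      ⟨g⁻¹, inv_mem h1, ((g * b)⁻¹ * a)⁻¹, inv_mem h2, by group⟩)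
  · intro y
    induction y using Quotient.inductionOn' with | _ p => ?_
    obtain ⟨p1, p2⟩ := p
    induction p1 using QuotientGroup.induction_on with | _ a => ?_
    induction p2 using QuotientGroup.induction_on with | _ b => ?_
    refine ⟨Quotient.mk'' (a⁻¹ * b), ?_⟩
    rw [Quotient.map'_mk'']
    refine Quotient.eq''.mpr ⟨a⁻¹, ?_⟩
    simp [Prod.ext_iff]

open scoped Classical in
/-- The sum over the group of the product of two permutation characters. -/
theorem sum_fixedPointCharacter_mul :
    ∑ g : G, Cfsg.fixedPointCharacter H g * Cfsg.fixedPointCharacter K g =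
      (Nat.card (DoubleCoset.Quotient (H : Set G) K) : ℂ) * (Nat.card G : ℂ) := by
  have key : ∑ g : G, Nat.card (MulAction.fixedBy ((G ⧸ H) × (G ⧸ K)) g) =
      Nat.card (DoubleCoset.Quotient (H : Set G) K) * Nat.card G := by
    have h := MulAction.sum_card_fixedBy_eq_card_orbits_mul_card_group G ((G ⧸ H) × (G ⧸ K))
    simp only [← Nat.card_eq_fintype_card] at h
    rw [h]
    exact congrArg (· * Nat.card G) (card_orbits_prod H K)
  have hfix : ∀ g : G, (Nat.card (MulAction.fixedBy ((G ⧸ H) × (G ⧸ K)) g) : ℂ) =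
      Cfsg.fixedPointCharacter H g * Cfsg.fixedPointCharacter K g := by
    intro g
    rw [Cfsg.fixedPointCharacter, Cfsg.fixedPointCharacter, ← Nat.cast_mul, ← Nat.card_prod]
    congr 1
    refine Nat.card_congr ((Equiv.subtypeEquivRight fun p => ?_).trans Equiv.subtypeProdEquivProd)
    simp [MulAction.fixedBy, Prod.ext_iff]
  rw [← Finset.sum_congr rfl fun g _ => hfix g, ← Nat.cast_sum, key, Nat.cast_mul]

end Orbits

section Inner

variable {n : ℕ} {F : Type*} [Field F] [Fintype F] [Fintype (GL (Fin n) F)] (μ ν : Fin n → ℕ)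

/-- Permutation characters of parabolic subgroups have the inner products of those of Young subgroups. -/
theorem parabolic_inner :
    (Nat.card (GL (Fin n) F) : ℂ)⁻¹ * ∑ g : GL (Fin n) F,
        Cfsg.fixedPointCharacter (Cfsg.parabolicGL n F ν) g *
          Cfsg.fixedPointCharacter (Cfsg.parabolicGL n F μ) g =
      (Nat.card (DoubleCoset.Quotient (Cfsg.youngSubgroup ν : Set (Equiv.Perm (Fin n)))
        (Cfsg.youngSubgroup μ)) : ℂ) := by
  have h0 : (Nat.card (GL (Fin n) F) : ℂ) ≠ 0 := by exact_mod_cast Nat.card_pos.ne'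
  rw [sum_fixedPointCharacter_mul, card_doubleCoset_parabolic μ ν]
  field_simp

end Inner

end Cfsg.Agent.Lib.GLFlags
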