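import Cfsg.Agent.Lib.ChevStructure.CommGL
import Cfsg.Prelude.Def_ChevAutomorphisms

/-!
Subgroups containing the monomial subgroup and some fundamental root subgroups contain the whole
Chevalley group: a checkable criterion.
-/

set_option autoImplicit false
set_option linter.unusedSectionVars false

namespace Cfsg.Agent.Lib.GLFlags.ChevGenN

open Cfsg.Lie Cfsg.Agent.Lib.ChevStructure
open scoped MatrixGroups Matrix

variable (D : ChevalleyDatum)

/-- Roots one reflection away from the given fundamental roots, with signs. -/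
def reach1 (S : List ℕ) : List ℕ :=
  S.flatMap fun j => D.simple j :: D.neg (D.simple j) ::
    ((List.range D.rank).flatMap fun k =>
      [D.reflectRoot k (D.simple j), D.neg (D.reflectRoot k (D.simple j))])

/-- Add the nodes joined to given ones by a simple bond. -/
def adj (S : List ℕ) : List ℕ :=
  (List.range D.rank).filter fun j => S.contains j || S.any fun k =>
    Nat.blt k D.rank && D.reflectRoot k (D.reflectRoot j (D.simple k)) == D.simple j

/-- Iterate `adj`. -/
def closeAdj : ℕ → List ℕ → List ℕ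
  | 0, S => S
  | n + 1, S => closeAdj n (adj D S)

/-- The commutator term list is one term of height two with coefficient of absolute value `e`. -/
def single (e q : ℕ) : List (ℕ × ℤ × ℕ × ℕ) → Bool
  | [(k, c, 1, 1)] => k == q && c.natAbs == e
  | _ => false

/-- Add the nodes reached by one commutator. -/
def derived (e : ℕ) (S : List ℕ) : List ℕ :=
  (List.range D.rank).filter fun j => S.contains j || (reach1 D S).any fun a => (reach1 D S).any fun b =>
    b != a && b != D.neg a && single e (D.simple j) (D.commTerms a b)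

/-- All nodes are reached from `S`. -/
def covers (e : ℕ) (S : List ℕ) : Bool :=
  S.all (fun j => Nat.blt j D.rank) &&
    (List.range D.rank).all fun j => (closeAdj D D.rank (derived D e (closeAdj D D.rank S))).contains j

variable {D} (C : Core D) {F : Type*} [Field F] (M : Subgroup (GL D.Idx F))

/-- The root subgroup with this index lies in `M`. -/
def Good (q : ℕ) : Prop := ∃ r : Rt D, r.val = q ∧ ∀ t, C.X F r t ∈ M

variable {C M}

theorem good_reflect (hP : ∀ i, C.P F i ∈ M) {q : ℕ} (hq : Good C M q) {k : ℕ} (hk : k < D.rank) :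
    Good C M (D.reflectRoot k q) := by
  obtain ⟨r, rfl, hr⟩ := hq
  refine ⟨C.w ⟨k, hk⟩ r, (C.w_eq ⟨k, hk⟩ r).symm, fun t => ?_⟩
  have h := M.mul_mem (M.mul_mem (hP ⟨k, hk⟩) (hr ((C.η ⟨k, hk⟩ r : F) * t))) (M.inv_mem (hP ⟨k, hk⟩))
  rwa [C.P_X_conj, ← mul_assoc, ← Int.cast_mul, C.η_mul_self, Int.cast_one, one_mul] at h

theorem good_node_neg (hP : ∀ i, C.P F i ∈ M) {j : ℕ} (hj : j < D.rank) (h : Good C M (D.simple j)) :
    Good C M (D.neg (D.simple j)) := by
  have h1 := good_reflect hP h hj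
  rw [show D.reflectRoot j (D.simple j) = D.neg (D.simple j) by simp [ChevalleyDatum.reflectRoot]] at h1
  exact h1

theorem good_reach1 (hP : ∀ i, C.P F i ∈ M) {S : List ℕ}
    (hS : ∀ j ∈ S, j < D.rank ∧ Good C M (D.simple j)) {a : ℕ} (ha : a ∈ reach1 D S) : Good C M a := by
  simp only [reach1, List.mem_flatMap, List.mem_cons, List.mem_range, List.not_mem_nil, or_false] at ha
  obtain ⟨j, hj, ha⟩ := ha
  obtain ⟨hlt, hg⟩ := hS j hj
  rcases ha with rfl | rfl | ⟨k, hk, rfl | rfl⟩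
  · exact hg
  · exact good_node_neg hP hlt hg
  · exact good_reflect hP hg hk
  · obtain ⟨r, hr, hrM⟩ := good_node_neg hP hlt hg
    obtain ⟨r₀, hr₀, -⟩ := hg
    obtain rfl : r = r₀.rev := Fin.ext (by rw [hr, ← hr₀, C.neg_val])
    have h := good_reflect hP (⟨r₀.rev, rfl, hrM⟩ : Good C M r₀.rev.val) hk
    rw [C.w_eq ⟨k, hk⟩ r₀.rev, C.w_rev] at h
    rwa [← hr₀, C.w_eq ⟨k, hk⟩ r₀, C.neg_val]

theorem adj_ok (hP : ∀ i, C.P F i ∈ M) {S : List ℕ} (hS : ∀ j ∈ S, j < D.rank ∧ Good C M (D.simple j)) :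
    ∀ j ∈ adj D S, j < D.rank ∧ Good C M (D.simple j) := by
  intro j hj
  simp only [adj, List.mem_filter, List.mem_range, Bool.or_eq_true, List.contains_iff_mem, List.any_eq_true,
    Bool.and_eq_true, Nat.blt_eq, beq_iff_eq] at hj
  obtain ⟨hlt, h | ⟨k, hk, hkr, he⟩⟩ := hj
  · exact hS j h
  · refine ⟨hlt, ?_⟩
    rw [← he]
    exact good_reflect hP (good_reflect hP (hS k hk).2 hlt) hkr

theorem closeAdj_ok (hP : ∀ i, C.P F i ∈ M) :
    ∀ (n : ℕ) {S : List ℕ}, (∀ j ∈ S, j < D.rank ∧ Good C M (D.simple j)) →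
      ∀ j ∈ closeAdj D n S, j < D.rank ∧ Good C M (D.simple j)
  | 0, _, hS => hS
  | n + 1, _, hS => closeAdj_ok hP n (adj_ok hP hS)

theorem derived_ok (hC : CommOK C) (hP : ∀ i, C.P F i ∈ M) {e : ℕ} (he : (e : F) ≠ 0) {S : List ℕ}
    (hS : ∀ j ∈ S, j < D.rank ∧ Good C M (D.simple j)) :
    ∀ j ∈ derived D e S, j < D.rank ∧ Good C M (D.simple j) := by
  intro j hj
  simp only [derived, List.mem_filter, List.mem_range, Bool.or_eq_true, List.contains_iff_mem,
    List.any_eq_true, Bool.and_eq_true, bne_iff_ne, ne_eq] at hj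
  obtain ⟨hlt, h | ⟨a, ha, b, hb, ⟨hne, hneg⟩, hs⟩⟩ := hj
  · exact hS j h
  · refine ⟨hlt, C.p ⟨j, hlt⟩, (C.simple_eq ⟨j, hlt⟩).symm, fun v => ?_⟩
    obtain ⟨r, rfl, hr⟩ := good_reach1 hP hS ha
    obtain ⟨s, rfl, hs'⟩ := good_reach1 hP hS hb
    obtain ⟨c, hc, hl⟩ : ∃ c : ℤ, c.natAbs = e ∧ D.commTerms r.val s.val = [(D.simple j, c, 1, 1)] := by
      revert hs
      unfold single
      split
      · rename_i k c h
        intro hs
        simp only [Bool.and_eq_true, beq_iff_eq] at hs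
        exact ⟨c, hs.2, by rw [h, hs.1]⟩
      · simp
    have hcF : (c : F) ≠ 0 := by
      rcases Int.natAbs_eq c with h | h <;> rw [h, hc]
      · exact_mod_cast he
      · push_cast; exact neg_ne_zero.2 he
    have hsr : s ≠ r := fun h => hne (by rw [h])
    have hsn : s ≠ r.rev := fun h => hneg (by rw [h, C.neg_val])
    have h := hC.comm_X r s hsr hsn (-(v / (c : F))) 1
    rw [hl] at h
    simp only [List.map_cons, List.map_nil, List.prod_cons, List.prod_nil, mul_one, neg_neg, pow_one,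
      one_pow, mul_div_cancel₀ _ hcF] at h
    rw [show D.simple j = (C.p ⟨j, hlt⟩).val from C.simple_eq ⟨j, hlt⟩, C.XN_fin] at h
    have e1 : C.X F (C.p ⟨j, hlt⟩) v =
        (C.X F r (-(v / (c : F))) * C.X F s 1)⁻¹ * (C.X F s 1 * C.X F r (-(v / (c : F)))) := by
      rw [h, inv_mul_cancel_left]
    rw [e1]
    exact M.mul_mem (M.inv_mem (M.mul_mem (hr _) (hs' _))) (M.mul_mem (hs' _) (hr _))

theorem group_le (hC : CommOK C) (hP : ∀ i, C.P F i ∈ M) {e : ℕ} (he : (e : F) ≠ 0) {S : List ℕ}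
    (hcov : covers D e S = true) (hS : ∀ j ∈ S, ∀ t, ∀ g : GL D.Idx F,
      (g : Matrix D.Idx D.Idx F) = D.x F (D.simple j) t → g ∈ M) : D.group F ≤ M := by
  simp only [covers, Bool.and_eq_true, List.all_eq_true, Nat.blt_eq, List.mem_range,
    List.contains_iff_mem] at hcov
  have h0 : ∀ j ∈ S, j < D.rank ∧ Good C M (D.simple j) := fun j hj =>
    ⟨hcov.1 j hj, C.p ⟨j, hcov.1 j hj⟩, (C.simple_eq ⟨j, hcov.1 j hj⟩).symm, fun t =>
      hS j hj t _ (by rw [C.X_val_x, ← C.simple_eq ⟨j, hcov.1 j hj⟩])⟩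
  have hp : ∀ i, ∀ t, C.X F (C.p i) t ∈ M := by
    intro i
    obtain ⟨-, r, hr, hrM⟩ := closeAdj_ok hP _ (derived_ok hC hP he (closeAdj_ok hP _ h0)) i.val
      (hcov.2 i.val i.isLt)
    rwa [show C.p i = r from Fin.ext (by rw [hr, C.simple_eq i])]
  have hall : ∀ r : Rt D, ∀ t, C.X F r t ∈ M := by
    refine C.ind (fun r => ∀ t, C.X F r t ∈ M) hp fun i r ih t => ?_
    obtain ⟨r', hr', h'⟩ := good_reflect hP (⟨r, rfl, ih⟩ : Good C M r.val) i.isLt
    rw [show C.w i r = r' from Fin.ext (by rw [hr', C.w_eq i r])]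
    exact h' t
  unfold ChevalleyDatum.group
  rw [Subgroup.closure_le]
  rintro g ⟨r, t, hg⟩
  have hgX : g = C.X F r t := C.eq_X (by rw [hg, ChevalleyDatum.x, dif_pos r.isLt])
  rw [hgX]
  exact hall r t

theorem P_mem_monomial (C : Core D) (i : Fin D.rank) : C.P F i ∈ D.monomialSubgroup F :=
  Subgroup.mem_sup_right (Subgroup.subset_closure
    ⟨D.simple i, by rw [C.simple_eq]; exact (C.p i).isLt, (C.nMat_one i).symm⟩)

end Cfsg.Agent.Lib.GLFlags.ChevGenN
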