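import Mathlib
import Cfsg.Agent.Lib.Linear.Transvection

/-!
SL_{n+1} is generated by the root groups of the cyclically consecutive pairs, and the monomial
matrix of the (n+1)-cycle permutes them.
-/

set_option autoImplicit false

namespace Cfsg.Agent.Lib.GLFlags.CycleGen

open Matrix

variable {F : Type*} [Field F] {n : ℕ}

local notation "SLn" => Matrix.SpecialLinearGroup (Fin (n + 1)) F

theorem conj_transvection {ι : Type*} [Fintype ι] [DecidableEq ι]
    (g : Matrix.SpecialLinearGroup ι F) {i j i' j' : ι} (hij : i ≠ j) (hij' : i' ≠ j') {c c' γ δ : F}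
    (hcol : ∀ a, g.1 a i = if a = i' then γ else 0) (hrow : ∀ b, g.1 j' b = if b = j then δ else 0)
    (hc : c' * δ = γ * c) :
    g * Matrix.SpecialLinearGroup.transvection hij c * g⁻¹ =
      Matrix.SpecialLinearGroup.transvection hij' c' := by
  rw [mul_inv_eq_iff_eq_mul]
  apply Subtype.ext
  simp only [Matrix.SpecialLinearGroup.coe_mul, Matrix.SpecialLinearGroup.transvection_coe, mul_add,
    add_mul, Matrix.mul_one, Matrix.one_mul]
  congr 1
  ext a b
  simp only [Matrix.mul_apply, Matrix.single_apply, hcol]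
  by_cases ha : a = i' <;> by_cases hb : b = j <;>
    simp [ha, hb, Ne.symm, hcol, hrow, hc.symm]

theorem val_add_one' {i : Fin (n + 1)} (h : i.val < n) : (i + 1).val = i.val + 1 :=
  Fin.val_add_one_of_lt (by rw [Fin.lt_def, Fin.val_last]; exact h)

theorem eq_add_one_iff (i b : Fin (n + 1)) :
    (b = i + 1) ↔ (b.val = i.val + 1 ∨ (i.val = n ∧ b.val = 0)) := by
  by_cases h : i.val < n
  · rw [Fin.ext_iff, val_add_one' h]
    omega
  · have hi : i = Fin.last n := Fin.ext (by have := i.isLt; simp [Fin.val_last]; omega)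
    subst hi
    have hb := b.isLt
    rw [Fin.last_add_one, Fin.ext_iff, Fin.val_zero, Fin.val_last]
    omega

theorem ne_add_one (hn : 1 ≤ n) (i : Fin (n + 1)) : i ≠ i + 1 := by
  intro h
  rcases (eq_add_one_iff i i).mp h with h | h <;> omega

/-- The cycle matrix entries in cyclic notation. -/
theorem cycle_entry {w : Matrix.SpecialLinearGroup (Fin (n + 1)) F}
    (hw : (w : Matrix (Fin (n + 1)) (Fin (n + 1)) F) =
      Matrix.of (fun i j => if j.val = i.val + 1 then 1 else if i.val = n ∧ j.val = 0 then (-1) ^ n else 0))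
    (a b : Fin (n + 1)) :
    w.1 a b = if b = a + 1 then (if a.val < n then 1 else (-1) ^ n) else 0 := by
  have e := eq_add_one_iff a b
  have := b.isLt
  rw [hw, Matrix.of_apply]
  split_ifs with h1 h2 h3 h4 h5 h6 <;> first | rfl | (exfalso; simp only [e] at *; omega)

theorem cycle_conj (hn : 1 ≤ n) {w : Matrix.SpecialLinearGroup (Fin (n + 1)) F}
    (hw : (w : Matrix (Fin (n + 1)) (Fin (n + 1)) F) =
      Matrix.of (fun i j => if j.val = i.val + 1 then 1 else if i.val = n ∧ j.val = 0 then (-1) ^ n else 0))
    (i : Fin (n + 1)) (c : F) :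
    ∃ s : F, (s = 1 ∨ s = -1) ∧
      w * Matrix.SpecialLinearGroup.transvection (ne_add_one hn (i + 1)) c * w⁻¹ =
        Matrix.SpecialLinearGroup.transvection (ne_add_one hn i) (s * c) := by
  let ε : Fin (n + 1) → F := fun a => if a.val < n then 1 else (-1) ^ n
  have hε : ∀ a, ε a = 1 ∨ ε a = -1 := fun a => by
    simp only [ε]; split_ifs
    · exact Or.inl rfl
    · exact neg_one_pow_eq_or F n
  refine ⟨ε i * ε (i + 1), ?_, conj_transvection w _ _ (γ := ε i) (δ := ε (i + 1)) ?_ ?_ ?_⟩
  · rcases hε i with h | h <;> rcases hε (i + 1) with h' | h' <;> rw [h, h'] <;> simp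
  · intro a
    rw [cycle_entry hw]
    by_cases h : a = i
    · subst h; simp [ε]
    · rw [if_neg h, if_neg]
      exact fun e => h (add_right_cancel e).symm
  · intro b
    rw [cycle_entry hw]
  · rcases hε (i + 1) with h' | h' <;> rw [h'] <;> ring

/-- Consecutive root groups generate. -/
theorem eq_top_of_consecutive (hn : 1 ≤ n) (H : Subgroup SLn)
    (h : ∀ (i : Fin (n + 1)) (c : F), Matrix.SpecialLinearGroup.transvection (ne_add_one hn i) c ∈ H) :
    H = ⊤ := by
  refine Cfsg.Agent.Lib.Linear.sl_eq_top_of_transvection_mem H ?_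
  have key : ∀ (d : ℕ) (i k : Fin (n + 1)) (hik : i ≠ k), (k - i).val = d → ∀ c : F,
      Matrix.SpecialLinearGroup.transvection hik c ∈ H := by
    intro d
    induction d with
    | zero =>
      intro i k hik hd c
      exact absurd (sub_eq_zero.mp (Fin.ext (hd.trans (Fin.val_zero _).symm))).symm hik
    | succ d ih =>
      intro i k hik hd c
      by_cases hk : k = i + 1
      · subst hk; exact h i c
      · have hd' : (k - (i + 1)).val = d := by
          rw [show k - (i + 1) = k - i - 1 by abel, Fin.val_sub_one_of_ne_zero (sub_ne_zero.mpr hik.symm), hd]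
          rfl
        rw [← one_mul c, ← Cfsg.Agent.Lib.Linear.commutator_transvection (ne_add_one hn i) (Ne.symm hk) hik 1 c,
          commutatorElement_def]
        exact H.mul_mem (H.mul_mem (H.mul_mem (h i 1) (ih _ _ _ hd' c)) (H.inv_mem (h i 1)))
          (H.inv_mem (ih _ _ _ hd' c))
  exact fun i k hik c => key _ i k hik rfl c

/-- With the cycle, one consecutive root group suffices. -/
theorem eq_top_of_cycle (hn : 1 ≤ n) (H : Subgroup SLn) {w : Matrix.SpecialLinearGroup (Fin (n + 1)) F}
    (hw : (w : Matrix (Fin (n + 1)) (Fin (n + 1)) F) =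
      Matrix.of (fun i j => if j.val = i.val + 1 then 1 else if i.val = n ∧ j.val = 0 then (-1) ^ n else 0))
    (hwH : w ∈ H) (h01 : (0 : Fin (n + 1)) ≠ 1)
    (h : ∀ c : F, Matrix.SpecialLinearGroup.transvection h01 c ∈ H) : H = ⊤ := by
  refine eq_top_of_consecutive hn H ?_
  have key : ∀ (d : ℕ) (i : Fin (n + 1)) (c : F), (0 - i).val = d →
      Matrix.SpecialLinearGroup.transvection (ne_add_one hn i) c ∈ H := by
    intro d
    induction d with
    | zero =>
      intro i c hd
      obtain rfl : i = 0 := by
        have : (0 : Fin (n + 1)) - i = 0 := Fin.ext (hd.trans (Fin.val_zero _).symm)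
        exact (sub_eq_zero.mp this).symm
      have := h c
      simpa using this
    | succ d ih =>
      intro i c hd
      have hi : (0 : Fin (n + 1)) - i ≠ 0 := fun e => by rw [e] at hd; simp at hd
      have hd' : ((0 : Fin (n + 1)) - (i + 1)).val = d := by
        rw [show (0 : Fin (n + 1)) - (i + 1) = 0 - i - 1 by abel, Fin.val_sub_one_of_ne_zero hi, hd]
        rfl
      obtain ⟨s, hs, he⟩ := cycle_conj hn hw i (c := c)
      have hs2 : s * s = 1 := by rcases hs with rfl | rfl <;> ring
      obtain ⟨s', hs', he'⟩ := cycle_conj hn hw i (c := s * c)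
      rcases hs with rfl | rfl <;> rcases hs' with rfl | rfl
      all_goals
        first
        | (rw [one_mul] at he; rw [← he]; exact H.mul_mem (H.mul_mem hwH (ih _ _ hd')) (H.inv_mem hwH))
        | (have : Matrix.SpecialLinearGroup.transvection (ne_add_one hn i) c =
              (w * Matrix.SpecialLinearGroup.transvection (ne_add_one hn (i + 1)) c * w⁻¹)⁻¹ := by
            rw [he, Matrix.SpecialLinearGroup.transvection_inv]; simp
           rw [this]
           exact H.inv_mem (H.mul_mem (H.mul_mem hwH (ih _ _ hd')) (H.inv_mem hwH)))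
  exact fun i c => key _ i c rfl

end Cfsg.Agent.Lib.GLFlags.CycleGen
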