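import Mathlib
import Cfsg.Agent.Lib.Unitary.Basic
import Cfsg.Agent.S2569

/-!
The unitary centraliser of a semisimple unitary element has every norm-one determinant.
-/

set_option autoImplicit false

namespace Cfsg.Agent.Lib.GLFlags.UnitaryDet

open Matrix Module Polynomial Cfsg.Agent.Lib.Unitary

variable {F : Type*} [Field F] [Fintype F] {q n : ℕ}

theorem restrict_aeval {V : Type*} [AddCommGroup V] [Module F V] (T : Module.End F V) {W : Submodule F V}
    (hW : ∀ v ∈ W, T v ∈ W) (g : F[X]) (v : W) :
    ((aeval (T.restrict hW) g v : W) : V) = aeval T g (v : V) := by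
  induction g using Polynomial.induction_on generalizing v with
  | C a => simp [Module.algebraMap_end_apply]
  | add a b ha hb => simp [ha, hb]
  | monomial k a ih =>
    rw [pow_succ, ← mul_assoc, map_mul, map_mul (aeval T), aeval_X, aeval_X, Module.End.mul_apply,
      Module.End.mul_apply, ih]
    rfl

/-- Adjoint operators with respect to a non-degenerate sesquilinear pairing have conjugate determinants. -/
theorem det_adjoint (hF : Fintype.card F = q ^ 2) {W : Submodule F (Fin n → F)} (hW : Nondeg q W)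
    (A A' : Module.End F W)
    (h : ∀ a b : W, hermForm n F q (A a).1 b.1 = hermForm n F q a.1 (A' b).1) :
    LinearMap.det A' = LinearMap.det A ^ q := by
  classical
  let b := Module.finBasis F W
  let G : Matrix (Fin (finrank F W)) (Fin (finrank F W)) F :=
    Matrix.of fun i j => hermForm n F q (b i).1 (b j).1
  let M := LinearMap.toMatrix b b A
  let M' := LinearMap.toMatrix b b A'
  have hexp : ∀ (B : Module.End F W) j,
      (B (b j)).1 = ∑ k, LinearMap.toMatrix b b B k j • (b k).1 := by
    intro B j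
    have := congrArg Subtype.val (b.sum_repr (B (b j)))
    simp only [Submodule.coe_sum, Submodule.coe_smul] at this
    simp only [LinearMap.toMatrix_apply]
    exact this.symm
  have hGdet : G.det ≠ 0 := by
    intro h0
    obtain ⟨d, hd, hd'⟩ := Matrix.exists_mulVec_eq_zero_iff.2 h0
    apply hd
    have hx : (∑ k, (d k ^ q) • b k : W) = 0 := by
      refine Subtype.ext (hW _ (Subtype.coe_prop _) fun v hv => herm_eq_zero_symm hF ?_)
      have hv' : v = ∑ i, b.repr ⟨v, hv⟩ i • (b i).1 := by
        have := congrArg Subtype.val (b.sum_repr ⟨v, hv⟩)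
        simp only [Submodule.coe_sum, Submodule.coe_smul] at this
        exact this.symm
      rw [hv', herm_sum_left]
      refine Finset.sum_eq_zero fun i _ => ?_
      rw [herm_smul_left]
      refine mul_eq_zero_of_right _ ?_
      have := congrFun hd' i
      simp only [Submodule.coe_sum, Submodule.coe_smul]
      rw [herm_sum_right _ hF]
      rw [Matrix.mulVec, dotProduct] at this
      refine Eq.trans (Finset.sum_congr rfl fun k _ => ?_) this
      rw [herm_smul_right, pow_q_q hF, mul_comm]
      rfl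
    funext k
    have := Fintype.linearIndependent_iff.1 b.linearIndependent _ hx k
    exact (pow_eq_zero_iff (q_ne_zero hF)).1 this
  have he : Mᵀ * G = G * M'.map (conj hF) := by
    ext i j
    have := h (b i) (b j)
    rw [hexp A, hexp A', herm_sum_left, herm_sum_right _ hF] at this
    simp only [herm_smul_left, herm_smul_right] at this
    rw [Matrix.mul_apply, Matrix.mul_apply]
    simp only [Matrix.transpose_apply, Matrix.map_apply, G, Matrix.of_apply, conj_apply]
    rw [this]
    exact Finset.sum_congr rfl fun k _ => mul_comm _ _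
  have hd := congrArg Matrix.det he
  rw [Matrix.det_mul, Matrix.det_mul, Matrix.det_transpose, mul_comm G.det, ← RingHom.mapMatrix_apply,
    ← RingHom.map_det, conj_apply] at hd
  have hd' := mul_right_cancel₀ hGdet hd
  rw [LinearMap.det_toMatrix, LinearMap.det_toMatrix] at hd'
  rw [hd', pow_q_q hF]

/-- An anisotropic vector gives a cyclic invariant non-degenerate subspace. -/
theorem exists_cyclic_nondeg (hF : Fintype.card F = q ^ 2) (hn : 1 ≤ n)
    (T : Module.End F (Fin n → F)) (hT : ∀ u v, hermForm n F q (T u) (T v) = hermForm n F q u v)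
    {N : ℕ} (hN : (N : F) ≠ 0) (hTN : T ^ N = 1) :
    ∃ (u : Fin n → F) (W : Submodule F (Fin n → F)), u ∈ W ∧ u ≠ 0 ∧ Nondeg q W ∧ (∀ x ∈ W, T x ∈ W) ∧
      ∀ x ∈ W, ∃ g : F[X], aeval T g u = x := by
  classical
  have htop : Nondeg q (⊤ : Submodule F (Fin n → F)) :=
    nondeg_top fun u hu => herm_nondeg_left hF hu
  have hne : (⊤ : Submodule F (Fin n → F)) ≠ ⊥ := by
    intro h
    have := congrArg (fun S : Submodule F (Fin n → F) => finrank F S) h
    simp at this
    omega
  obtain ⟨v, -, hv⟩ := exists_norm_one_of_nondeg hF htop hne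
  let ψ : (Fin n → F) → F[X] →ₗ[F] (Fin n → F) := fun w => (LinearMap.applyₗ w).comp (aeval T).toLinearMap
  have hψ : ∀ w g, ψ w g = aeval T g w := fun w g => rfl
  let W := LinearMap.range (ψ v)
  have hWinv : ∀ x ∈ W, T x ∈ W := by
    rintro _ ⟨g, rfl⟩
    exact ⟨X * g, by rw [hψ, hψ, map_mul, aeval_X, Module.End.mul_apply]⟩
  have hvW : v ∈ W := ⟨1, by rw [hψ, map_one, Module.End.one_apply]⟩
  let R := W ⊓ perp q W
  have hTinj : Function.Injective T := by
    intro a b hab
    refine sub_eq_zero.1 (herm_nondeg_left hF fun c => ?_)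
    rw [← hT, map_sub, hab, sub_self, herm_zero_left]
  have hRinv : ∀ x ∈ R, T x ∈ R := by
    rintro x ⟨hx1, hx2⟩
    refine ⟨hWinv x hx1, fun w hw => ?_⟩
    obtain ⟨w', hw'⟩ := (LinearMap.injective_iff_surjective
      (f := T.restrict hWinv)).1 (fun a b hab => Subtype.ext (hTinj (congrArg Subtype.val hab))) ⟨w, hw⟩
    rw [show w = T w'.1 from (congrArg Subtype.val hw').symm, hT]
    exact hx2 _ w'.2
  have hss : T.IsSemisimple := Module.End.isSemisimple_of_squarefree_aeval_eq_zero
    (p := Polynomial.X ^ N - Polynomial.C (1 : F)) (separable_X_pow_sub_C 1 hN one_ne_zero).squarefree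
    (by simp [hTN])
  obtain ⟨U, hU, hRU⟩ := Module.End.isSemisimple_iff.1 hss R ((Module.End.mem_invtSubmodule T).2 hRinv)
  have hU' : ∀ x ∈ U, T x ∈ U := fun x hx => (Module.End.mem_invtSubmodule T).1 hU hx
  obtain ⟨r, hr, u, hu, hru⟩ := Submodule.mem_sup.1 (hRU.sup_eq_top ▸ Submodule.mem_top : v ∈ R ⊔ U)
  have huW : u ∈ W := by
    have := W.sub_mem hvW hr.1
    rwa [← hru, add_sub_cancel_left] at this
  have hpres : ∀ (S : Submodule F (Fin n → F)), (∀ x ∈ S, T x ∈ S) → ∀ (g : F[X]) x, x ∈ S → aeval T g x ∈ S := by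
    intro S hS g x hx
    rw [← restrict_aeval T hS g ⟨x, hx⟩]
    exact Subtype.coe_prop _
  have hgen : ∀ x ∈ U ⊓ W, ∃ g : F[X], aeval T g u = x := by
    rintro x ⟨hxU, g, rfl⟩
    refine ⟨g, ?_⟩
    have hr0 : aeval T g r = 0 := by
      have h1 : aeval T g r ∈ U := by
        have : aeval T g r = ψ v g - aeval T g u := by rw [hψ, ← hru, map_add, add_sub_cancel_right]
        rw [this]
        exact U.sub_mem hxU (hpres U hU' g u hu)
      exact Submodule.disjoint_def.1 hRU.disjoint _ (hpres R hRinv g r hr) h1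
    rw [hψ, ← hru, map_add, hr0, zero_add]
  refine ⟨u, U ⊓ W, ⟨hu, huW⟩, fun h0 => ?_, ?_, fun x hx => ⟨hU' x hx.1, hWinv x hx.2⟩, hgen⟩
  · rw [h0, add_zero] at hru
    subst hru
    rw [hr.2 r hvW] at hv
    exact zero_ne_one hv
  · rintro x ⟨hxU, hxW⟩ hperp
    refine Submodule.disjoint_def.1 hRU.disjoint x ⟨hxW, ?_⟩ hxU
    rintro w hw
    obtain ⟨g, rfl⟩ := hw
    rw [hψ, ← hru, map_add, herm_add_right _ _ _ hF,
      hperp _ ⟨hpres U hU' g u hu, hpres W hWinv g u huW⟩, add_zero]
    exact herm_eq_zero_symm hF ((hpres R hRinv g r hr).2 x hxW)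

/-- Every norm-one scalar is the determinant of a unitary map commuting with a semisimple unitary element. -/
theorem exists_unitary_centralising_det (hF : Fintype.card F = q ^ 2) (hn : 1 ≤ n) (A : GU n F q)
    {N : ℕ} (hN : (N : F) ≠ 0) (hAN : A ^ N = 1) {δ : F} (hδ : δ * δ ^ q = 1) :
    ∃ Z : GU n F q, Z * A = A * Z ∧ Z.1.1.det = δ := by
  classical
  let T : Module.End F (Fin n → F) := Matrix.toLin' A.1.1
  have hT : ∀ u v, hermForm n F q (T u) (T v) = hermForm n F q u v := fun u v => GU_herm u v A
  have hTN : T ^ N = 1 := by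
    simp only [T]
    rw [← Matrix.toLin'_pow, ← Units.val_pow_eq_pow_val, ← SubmonoidClass.coe_pow, hAN, OneMemClass.coe_one,
      Units.val_one, Matrix.toLin'_one]
    rfl
  obtain ⟨u, W, huW, hu0, hW, hWinv, hgen⟩ := exists_cyclic_nondeg hF hn T hT hN hTN
  have hN0 : N ≠ 0 := fun h => hN (by rw [h, Nat.cast_zero])
  have hWperp : ∀ x ∈ perp q W, T x ∈ perp q W := by
    intro x hx w hw
    have hw' : (T ^ (N - 1)) w ∈ W := by
      have := restrict_aeval T hWinv (Polynomial.X ^ (N - 1)) ⟨w, hw⟩
      rw [aeval_X_pow, aeval_X_pow] at this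
      rw [← this]
      exact Subtype.coe_prop _
    have : w = T ((T ^ (N - 1)) w) := by
      rw [← Module.End.mul_apply, ← pow_succ', Nat.sub_add_cancel (Nat.pos_of_ne_zero hN0), hTN,
        Module.End.one_apply]
    rw [this, hT]
    exact hx _ hw'
  let S : Module.End F W := T.restrict hWinv
  have hSN : S ^ N = 1 := by
    rw [Module.End.pow_restrict]
    ext x : 2
    simp [hTN]
  have hSinv : S * S ^ (N - 1) = 1 := by
    rw [← pow_succ', Nat.sub_add_cancel (Nat.pos_of_ne_zero hN0), hSN]
  obtain ⟨a, ha0, ha⟩ := exists_div_conj hF hδ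
  haveI : Nontrivial W := ⟨⟨u, huW⟩, 0, fun h => hu0 (congrArg Subtype.val h)⟩
  obtain ⟨y, hyS, hyd⟩ := Cfsg.Agent.S2569.exists_centralising_det S (Module.finrank_pos) rfl hN hSN a ha0
  -- y is a polynomial in S
  obtain ⟨r, hr⟩ := hgen _ (y ⟨u, huW⟩).2
  have hc : ∀ g : F[X], Commute y (aeval S g) := by
    intro g
    induction g using Polynomial.induction_on with
    | C c => rw [aeval_C]; exact Algebra.commute_algebraMap_right c y
    | add g₁ g₂ h₁ h₂ => rw [map_add]; exact h₁.add_right h₂
    | monomial k c h =>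
      rw [map_mul, aeval_C, aeval_X_pow]
      exact (Algebra.commute_algebraMap_right c y).mul_right (hyS.pow_right _)
  have hy : y = aeval S r := by
    refine LinearMap.ext fun x => ?_
    obtain ⟨g, hg⟩ := hgen x.1 x.2
    have hx : x = aeval S g ⟨u, huW⟩ := Subtype.ext (by rw [restrict_aeval, hg])
    rw [hx, ← Module.End.mul_apply, (hc g).eq, Module.End.mul_apply, ← Module.End.mul_apply (aeval S r),
      ← map_mul (aeval S), mul_comm r, map_mul (aeval S), Module.End.mul_apply]
    congr 1
    exact Subtype.ext (by rw [restrict_aeval, hr])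
  have hcomm : ∀ g g' : F[X], Commute (aeval S g) (aeval (S ^ (N - 1)) g') := by
    intro g g'
    rw [show S ^ (N - 1) = aeval S ((Polynomial.X : F[X]) ^ (N - 1)) by rw [aeval_X_pow], ← aeval_comp]
    exact (Commute.all g _).map (aeval S)
  let y' : Module.End F W := aeval (S ^ (N - 1)) (r.map (conj hF))
  have hadj : ∀ (g : F[X]) (c d : W),
      hermForm n F q (aeval S g c).1 d.1 =
        hermForm n F q c.1 (aeval (S ^ (N - 1)) (g.map (conj hF)) d).1 := by
    have hstep : ∀ c d : W, hermForm n F q (S c).1 d.1 = hermForm n F q c.1 ((S ^ (N - 1)) d).1 := by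
      intro c d
      conv_lhs => rw [show d = S ((S ^ (N - 1)) d) by rw [← Module.End.mul_apply, hSinv, Module.End.one_apply]]
      exact hT _ _
    intro g
    induction g using Polynomial.induction_on with
    | C c =>
      intro x d
      rw [Polynomial.map_C, aeval_C, aeval_C, Module.algebraMap_end_apply, Module.algebraMap_end_apply,
        Submodule.coe_smul, Submodule.coe_smul, herm_smul_left, herm_smul_right, conj_apply, pow_q_q hF]
    | add g₁ g₂ h₁ h₂ =>
      intro x d
      simp [herm_add_left, herm_add_right _ _ _ hF, h₁, h₂]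
    | monomial k c ih =>
      intro x d
      rw [pow_succ, ← mul_assoc, map_mul, aeval_X, Module.End.mul_apply, ih, hstep,
        Polynomial.map_mul (q := Polynomial.X), Polynomial.map_X, map_mul _ _ Polynomial.X, aeval_X]
      congr 2
      rw [← Module.End.mul_apply]
      congr 1
      have := ((Commute.all Polynomial.X ((C c * Polynomial.X ^ k).map (conj hF))).map
        (aeval (S ^ (N - 1)))).eq
      rwa [aeval_X] at this
  have hy'det : LinearMap.det y' = a ^ q := by
    rw [det_adjoint hF hW y y' (fun c d => by rw [hy]; exact hadj r c d), hyd]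
  obtain ⟨v', hv'⟩ : IsUnit y' := (LinearMap.isUnit_iff_isUnit_det y').2
    (by rw [hy'det]; exact (IsUnit.mk0 a ha0).pow q)
  let z : Module.End F W := y * ((v'⁻¹ : (Module.End F W)ˣ) : Module.End F W)
  have hyy' : Commute y y' := by
    rw [hy]
    exact hcomm r _
  have hzu : ∀ c d : W, hermForm n F q (z c).1 (z d).1 = hermForm n F q c.1 d.1 := by
    intro c d
    have key : ∀ c d : W, hermForm n F q (y c).1 (y d).1 = hermForm n F q (y' c).1 (y' d).1 := by
      intro c d
      rw [hy, hadj r c, ← hy]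
      change hermForm n F q c.1 (y' (y d)).1 = hermForm n F q (y' c).1 (y' d).1
      rw [← Module.End.mul_apply, ← hyy'.eq, Module.End.mul_apply, ← herm_conj _ _ hF,
        show hermForm n F q (y (y' d)).1 c.1 = hermForm n F q (y' d).1 (y' c).1 by rw [hy]; exact hadj r _ c,
        herm_conj _ _ hF]
    have hv : ∀ c : W, y' ((v'⁻¹ : (Module.End F W)ˣ).1 c) = c := by
      intro c
      rw [← Module.End.mul_apply, ← hv', Units.mul_inv, Module.End.one_apply]
    simp only [z, Module.End.mul_apply]
    rw [key, hv, hv]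
  have hzS : Commute z S := by
    refine Commute.mul_left hyS ((?_ : Commute (v' : Module.End F W) S).units_inv_left)
    rw [hv']
    have := (hcomm Polynomial.X (r.map (conj hF))).symm
    rwa [aeval_X] at this
  let P := Submodule.prodEquivOfIsCompl W (perp q W) (isCompl_perp hF hW)
  let Zl : Module.End F (Fin n → F) := P.conj (z.prodMap 1)
  have hP : ∀ c d, P (c, d) = c.1 + d.1 := fun c d => rfl
  have hZl : ∀ c d, Zl (P (c, d)) = P (z c, d) := by
    intro c d
    simp only [Zl, LinearEquiv.conj_apply_apply, P.symm_apply_apply, LinearMap.prodMap_apply]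
    rfl
  have hZpres : ∀ x x', hermForm n F q (Zl x) (Zl x') = hermForm n F q x x' := by
    intro x x'
    obtain ⟨⟨c, d⟩, rfl⟩ := P.surjective x
    obtain ⟨⟨c', d'⟩, rfl⟩ := P.surjective x'
    rw [hZl, hZl, hP, hP, hP, hP]
    simp only [herm_add_left, herm_add_right _ _ _ hF, hzu,
      d.2 _ (z c').2, d.2 _ c'.2, herm_eq_zero_symm hF (d'.2 _ (z c).2), herm_eq_zero_symm hF (d'.2 _ c.2)]
  have hZT : Zl * T = T * Zl := by
    refine LinearMap.ext fun x => ?_
    obtain ⟨⟨c, d⟩, rfl⟩ := P.surjective x
    rw [Module.End.mul_apply, Module.End.mul_apply, hZl]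
    have hTP : ∀ c d, T (P (c, d)) = P (S c, T.restrict hWperp d) := by
      intro c d; rw [hP, hP, map_add]; rfl
    rw [hTP, hTP, hZl, ← Module.End.mul_apply z S, hzS.eq]
    rfl
  let Z := mkGU hF (LinearMap.toMatrix' Zl) (fun x x' => by
    rw [LinearMap.toMatrix'_mulVec, LinearMap.toMatrix'_mulVec]; exact hZpres x x')
  refine ⟨Z, GU_ext fun x => ?_, ?_⟩
  · rw [GU_mul_mulVec, GU_mul_mulVec, mkGU_val, LinearMap.toMatrix'_mulVec, LinearMap.toMatrix'_mulVec]
    exact LinearMap.congr_fun hZT x
  · rw [mkGU_val, LinearMap.det_toMatrix']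
    simp only [Zl]
    rw [LinearEquiv.conj_apply, LinearMap.comp_assoc, LinearMap.det_conj (z.prodMap 1) P, LinearMap.det_prodMap,
      map_one, mul_one, map_mul, hyd]
    have : LinearMap.det ((v'⁻¹ : (Module.End F W)ˣ) : Module.End F W) = (a ^ q)⁻¹ := by
      refine eq_inv_of_mul_eq_one_left ?_
      rw [← hy'det, ← map_mul, ← hv', Units.inv_mul, map_one]
    rw [this, ← div_eq_mul_inv, div_eq_iff (pow_ne_zero q ha0)]
    exact ha

end Cfsg.Agent.Lib.GLFlags.UnitaryDet
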